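import Cfsg.Agent.R24.Def

/-!
# Kernel tools: sets of vectors as masks, linear maps by columns
`bs x` is the set of bits of `x`.  For `C = D.cols (cd g)` (the columns of `φ = g + 1`):
`app C a = φ a`, `eqm (pls C) v` is the mask of `{a | φ a = v}`, `spn C` the mask of the image;
`xl M c` translates the mask `M` by `c`.
-/

set_option autoImplicit false

namespace Cfsg.Agent.R24

open Cfsg Cfsg.Agent.Comp Cfsg.Agent.Spor Cfsg.Agent.Spor.M24C Subgroup
open scoped Pointwise commutatorElement

/-- The set bits of `x`. -/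
def bs (x : ℕ) : Finset ℕ := (Finset.range x).filter fun i => x.testBit i = true

theorem mem_bs {x i : ℕ} : i ∈ bs x ↔ x.testBit i = true := by
  rw [bs, Finset.mem_filter, Finset.mem_range]
  exact ⟨fun h => h.2, fun h => ⟨lt_of_lt_of_le Nat.lt_two_pow_self (Nat.ge_two_pow_of_testBit h), h⟩⟩

/-- Remove the top bit. -/
noncomputable def rmT (x i : ℕ) : ℕ := Nat.xor x (Nat.shiftLeft 1 i)

theorem testBit_rmT {x : ℕ} (h : x ≠ 0) (j : ℕ) :
    (rmT x x.log2).testBit j = true ↔ x.testBit j = true ∧ j ≠ x.log2 := by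
  change (x ^^^ (1 <<< x.log2)).testBit j = true ↔ _
  rw [Nat.testBit_xor, Nat.one_shiftLeft, Nat.testBit_two_pow]
  by_cases e : j = x.log2
  · simp [e, Nat.testBit_log2 h]
  · simp [e, Ne.symm e]

theorem card_rmT {x : ℕ} (h : x ≠ 0) : (bs x).card = (bs (rmT x x.log2)).card + 1 := by
  have : bs (rmT x x.log2) = (bs x).erase x.log2 := by
    ext j; rw [mem_bs, testBit_rmT h, Finset.mem_erase, mem_bs, and_comm]
  rw [this, Finset.card_erase_add_one (mem_bs.2 (Nat.testBit_log2 h))]

theorem bs_zero : bs 0 = ∅ := rfl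

/-- `p` holds for all bits (at most `n` of them). -/
noncomputable def allM (p : ℕ → Bool) (n : ℕ) : ℕ → Bool :=
  Nat.rec (motive := fun _ => ℕ → Bool) (fun x => Nat.beq x 0) (fun _ ih x =>
    or' (Nat.beq x 0) (force (Nat.log2 x) fun i => and' (p i) (force (rmT x i) ih))) n

theorem of_allM {p : ℕ → Bool} {n x : ℕ} (h : allM p n x = true) {j : ℕ}
    (hj : x.testBit j = true) : p j = true := by
  induction n generalizing x with
  | zero =>
    change Nat.beq x 0 = true at h
    rw [(beq_iff _ _).1 h] at hj; simp at hj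
  | succ n ih =>
    change or' (Nat.beq x 0) (force (Nat.log2 x) fun i => and' (p i)
      (force (rmT x i) (allM p n))) = true at h
    simp only [or'_eq_true, beq_iff, force_eq, and'_eq_true] at h
    by_cases h0 : x = 0
    · rw [h0] at hj; simp at hj
    obtain ⟨h1, h2⟩ := h.resolve_left h0
    by_cases e : j = Nat.log2 x
    · rw [e]; exact h1
    · exact ih h2 ((testBit_rmT h0 j).2 ⟨hj, e⟩)

/-- `p` holds for some bit. -/
noncomputable def anyM (p : ℕ → Bool) (n : ℕ) : ℕ → Bool :=
  Nat.rec (motive := fun _ => ℕ → Bool) (fun _ => false) (fun _ ih x =>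
    and' (not' (Nat.beq x 0)) (force (Nat.log2 x) fun i => or' (p i) (force (rmT x i) ih))) n

theorem of_anyM {p : ℕ → Bool} {n x : ℕ} (h : anyM p n x = true) :
    ∃ j, x.testBit j = true ∧ p j = true := by
  induction n generalizing x with
  | zero => exact absurd h Bool.false_ne_true
  | succ n ih =>
    change and' (not' (Nat.beq x 0)) (force (Nat.log2 x) fun i => or' (p i)
      (force (rmT x i) (anyM p n))) = true at h
    simp only [or'_eq_true, beq_iff, force_eq, and'_eq_true, not'_eq_true] at h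
    rcases h.2 with h1 | h1
    · exact ⟨_, Nat.testBit_log2 h.1, h1⟩
    · obtain ⟨j, h2, h3⟩ := ih h1
      exact ⟨j, ((testBit_rmT h.1 j).1 h2).1, h3⟩

/-- Fewer than `m` bits. -/
noncomputable def few (m : ℕ) : ℕ → Bool :=
  Nat.rec (motive := fun _ => ℕ → Bool) (fun _ => false) (fun _ ih x =>
    or' (Nat.beq x 0) (force (rmT x (Nat.log2 x)) ih)) m

theorem few_iff {m x : ℕ} : few m x = true ↔ (bs x).card < m := by
  induction m generalizing x with
  | zero => exact ⟨fun h => absurd h Bool.false_ne_true, fun h => absurd h (Nat.not_lt_zero _)⟩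
  | succ m ih =>
    change or' (Nat.beq x 0) (force (rmT x (Nat.log2 x)) (few m)) = true ↔ _
    simp only [or'_eq_true, beq_iff, force_eq, ih]
    by_cases h0 : x = 0
    · simp [h0, bs_zero]
    · rw [card_rmT h0]; simp [h0]

/-- The number of bits, up to `n`. -/
noncomputable def cnt (n : ℕ) : ℕ → ℕ :=
  Nat.rec (motive := fun _ => ℕ → ℕ) (fun _ => 0) (fun _ ih x =>
    ite' (Nat.beq x 0) 0 (Nat.succ (force (rmT x (Nat.log2 x)) ih))) n

theorem cnt_eq {n x : ℕ} (h : (bs x).card ≤ n) : cnt n x = (bs x).card := by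
  induction n generalizing x with
  | zero => exact (Nat.le_zero.1 h).symm
  | succ n ih =>
    change ite' (Nat.beq x 0) 0 (Nat.succ (force (rmT x (Nat.log2 x)) (cnt n))) = _
    rw [ite'_eq, force_eq]
    by_cases h0 : x = 0
    · simp [h0, bs_zero]
    · rw [card_rmT h0] at h ⊢
      rw [if_neg (by rwa [beq_iff]), ih (by omega)]

theorem card_bs_le {x n : ℕ} (h : ∀ i, x.testBit i = true → i < n) : (bs x).card ≤ n := by
  refine (Finset.card_le_card (t := Finset.range n) fun i hi => ?_).trans (Finset.card_range n).le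
  exact Finset.mem_range.2 (h i (mem_bs.1 hi))

/-- `2^n - 1`. -/
noncomputable def onz (n : ℕ) : ℕ := Nat.sub (Nat.shiftLeft 1 n) 1

theorem testBit_onz (n i : ℕ) : (onz n).testBit i = decide (i < n) := by
  change (1 <<< n - 1).testBit i = _
  rw [Nat.one_shiftLeft, Nat.testBit_two_pow_sub_one]

theorem testBit_dig (w c i j : ℕ) :
    (dig w (onz w) c i).testBit j = (decide (j < w) && c.testBit (w * i + j)) := by
  change ((c >>> (w * i)) &&& onz w).testBit j = _
  rw [Nat.testBit_and, Nat.testBit_shiftRight, testBit_onz, Bool.and_comm]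

/-- Pack `f 0, …, f (n-1)` in digits of width `w`. -/
noncomputable def pk (w n : ℕ) (f : ℕ → ℕ) : ℕ :=
  orLT n fun k => Nat.shiftLeft (f k) (Nat.mul w k)

theorem dig_pk {w n : ℕ} {f : ℕ → ℕ} (hf : ∀ k < n, ∀ j, (f k).testBit j = true → j < w) {i : ℕ}
    (hi : i < n) : dig w (onz w) (pk w n f) i = f i := by
  apply Nat.eq_of_testBit_eq
  intro j
  rw [Bool.eq_iff_iff, testBit_dig, Bool.and_eq_true, decide_eq_true_eq, pk, testBit_orLT]
  constructor
  · rintro ⟨hj, k, hk, h⟩
    change (f k <<< (w * k)).testBit _ = true at h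
    rw [Nat.testBit_shiftLeft, Bool.and_eq_true, decide_eq_true_eq] at h
    have h2 := hf k hk _ h.2
    have : k = i := by
      rcases lt_trichotomy k i with e | e | e
      · have : w * (k + 1) ≤ w * i := Nat.mul_le_mul_left _ e
        rw [mul_add] at this; omega
      · exact e
      · have : w * (i + 1) ≤ w * k := Nat.mul_le_mul_left _ e
        rw [mul_add] at this; omega
    subst this
    simpa using h.2
  · intro h
    refine ⟨hf i hi j h, i, hi, ?_⟩
    change (f i <<< (w * i)).testBit _ = true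
    rw [Nat.testBit_shiftLeft]; simpa using h

theorem lt_of_testBit {a j : ℕ} (ha : a < 2048) (h : a.testBit j = true) : j < 11 := by
  by_contra e
  rw [Nat.testBit_lt_two_pow (lt_of_lt_of_le ha (Nat.pow_le_pow_right (n := 2) (i := 11)
    (by norm_num) (not_lt.1 e)))] at h
  exact Bool.false_ne_true h

/-- The eleven masks `{a < 2048 | a.testBit k}`. -/
def BB : ℕ := 0xffffffffffffffffffffffffffffffffffffffffffffffffffffffffffffffffffffffffffffffffffffffffffffffffffffffffffffffffffffffffffffffffffffffffffffffffffffffffffffffffffffffffffffffffffffffffffffffffffffffffffffffffffffffffffffffffffffffffffffffffffffffffffffffff0000000000000000000000000000000000000000000000000000000000000000000000000000000000000000000000000000000000000000000000000000000000000000000000000000000000000000000000000000000000000000000000000000000000000000000000000000000000000000000000000000000000000000ffffffffffffffffffffffffffffffffffffffffffffffffffffffffffffffffffffffffffffffffffffffffffffffffffffffff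ffffffffffffffffffffffff00000000000000000000000000000000000000000000000000000000000000000000000000000000000000000000000000000000000000000000000000000000ffffffffffffffffffffffffffffffffffffffffffffffffffffffffffffffffffffffffffffffffffffffffffffffffffffffffffffffffffffffffffffffff00000000000000000000000000000000000000000000000000000000000000000000000000000000000000000000000000000000000000000000000000000000ffffffffffffffffffffffffffffffffffffffffffffffffffffffffffffffff0000000000000000000000000000000000000000000000000000000000000000ffffffffffffffffffffffffffffffffffffffffffffffffffffffffffffffff0000000000000000000000000000000000000000000000000000000000000000ffffffffffffffffffffffffffffffffffffffffffffffffffffffffffffffff0000000000000000000000000000000000000000000000000000000000000000ffffffffffffffffffffffffffffffffffffffffffffffffffffffffffffffff0000000000000000000000000000000000000000000000000000000000000000ffffffffffffffffffffffffffffffff00000000000000000000000000000000ffffffff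ffffffffffffffffffffffff00000000000000000000000000000000ffffffffffffffffffffffffffffffff00000000000000000000000000000000ffffffffffffffffffffffffffffffff00000000000000000000000000000000ffffffffffffffffffffffffffffffff00000000000000000000000000000000ffffffffffffffffffffffffffffffff00000000000000000000000000000000ffffffffffffffffffffffffffffffff00000000000000000000000000000000ffffffffffffffffffffffffffffffff00000000000000000000000000000000ffffffffffffffff0000000000000000ffffffffffffffff0000000000000000ffffffffffffffff0000000000000000ffffffffffffffff0000000000000000ffffffffffffffff0000000000000000ffffffffffffffff0000000000000000ffffffffffffffff0000000000000000ffffffffffffffff0000000000000000ffffffffffffffff0000000000000000ffffffffffffffff0000000000000000ffffffffffffffff0000000000000000ffffffffffffffff0000000000000000ffffffffffffffff0000000000000000ffffffffffffffff0000000000000000ffffffffffffffff0000000000000000ffffffffffffffff0000000000000000ffffffff00000000ffffffff00000000ffffffff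00000000ffffffff00000000ffffffff00000000ffffffff00000000ffffffff00000000ffffffff00000000ffffffff00000000ffffffff00000000ffffffff00000000ffffffff00000000ffffffff00000000ffffffff00000000ffffffff00000000ffffffff00000000ffffffff00000000ffffffff00000000ffffffff00000000ffffffff00000000ffffffff00000000ffffffff00000000ffffffff00000000ffffffff00000000ffffffff00000000ffffffff00000000ffffffff00000000ffffffff00000000ffffffff00000000ffffffff00000000ffffffff00000000ffffffff00000000ffff0000ffff0000ffff0000ffff0000ffff0000ffff0000ffff0000ffff0000ffff0000ffff0000ffff0000ffff0000ffff0000ffff0000ffff0000ffff0000ffff0000ffff0000ffff0000ffff0000ffff0000ffff0000ffff0000ffff0000ffff0000ffff0000ffff0000ffff0000ffff0000ffff0000ffff0000ffff0000ffff0000ffff0000ffff0000ffff0000ffff0000ffff0000ffff0000ffff0000ffff0000ffff0000ffff0000ffff0000ffff0000ffff0000ffff0000ffff0000ffff0000ffff0000ffff0000ffff0000ffff0000ffff0000ffff0000ffff0000ffff0000ffff0000ffff0000ffff0000ffff0000ffff0000ffff0000ffff0000ff00ff00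ff00ff00ff00ff00ff00ff00ff00ff00ff00ff00ff00ff00ff00ff00ff00ff00ff00ff00ff00ff00ff00ff00ff00ff00ff00ff00ff00ff00ff00ff00ff00ff00ff00ff00ff00ff00ff00ff00ff00ff00ff00ff00ff00ff00ff00ff00ff00ff00ff00ff00ff00ff00ff00ff00ff00ff00ff00ff00ff00ff00ff00ff00ff00ff00ff00ff00ff00ff00ff00ff00ff00ff00ff00ff00ff00ff00ff00ff00ff00ff00ff00ff00ff00ff00ff00ff00ff00ff00ff00ff00ff00ff00ff00ff00ff00ff00ff00ff00ff00ff00ff00ff00ff00ff00ff00ff00ff00ff00ff00ff00ff00ff00ff00ff00ff00ff00ff00ff00ff00ff00ff00ff00ff00ff00ff00ff00f0f0f0f0f0f0f0f0f0f0f0f0f0f0f0f0f0f0f0f0f0f0f0f0f0f0f0f0f0f0f0f0f0f0f0f0f0f0f0f0f0f0f0f0f0f0f0f0f0f0f0f0f0f0f0f0f0f0f0f0f0f0f0f0f0f0f0f0f0f0f0f0f0f0f0f0f0f0f0f0f0f0f0f0f0f0f0f0f0f0f0f0f0f0f0f0f0f0f0f0f0f0f0f0f0f0f0f0f0f0f0f0f0f0f0f0f0f0f0f0f0f0f0f0f0f0f0f0f0f0f0f0f0f0f0f0f0f0f0f0f0f0f0f0f0f0f0f0f0f0f0f0f0f0f0f0f0f0f0f0f0f0f0f0f0f0f0f0f0f0f0f0f0f0f0f0f0f0f0f0f0f0f0f0f0f0f0f0f0f0f0f0f0f0f0f0f0f0f0f0f0f0f0f0f0f0f0f0f0f0f0f0f0f0f0f0f0f0f0f0f0f0f0f0f0f0f0f0f0f0f0f0f0f0f0f0f0f0f0f0f0f0f0f0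f0f0f0f0f0f0f0f0f0f0f0f0ccccccccccccccccccccccccccccccccccccccccccccccccccccccccccccccccccccccccccccccccccccccccccccccccccccccccccccccccccccccccccccccccccccccccccccccccccccccccccccccccccccccccccccccccccccccccccccccccccccccccccccccccccccccccccccccccccccccccccccccccccccccccccccccccccccccccccccccccccccccccccccccccccccccccccccccccccccccccccccccccccccccccccccccccccccccccccccccccccccccccccccccccccccccccccccccccccccccccccccccccccccccccccccccccccccccccccccccccccccccccccccccccccccccccccccccccccccccccccccccccccccccccccccccccccccccccccccccccaaaaaaaaaaaaaaaaaaaaaaaaaaaaaaaaaaaaaaaaaaaaaaaaaaaaaaaaaaaaaaaaaaaaaaaaaaaaaaaaaaaaaaaaaaaaaaaaaaaaaaaaaaaaaaaaaaaaaaaaaaaaaaaaaaaaaaaaaaaaaaaaaaaaaaaaaaaaaaaaaaaaaaaaaaaaaaaaaaaaaaaaaaaaaaaaaaaaaaaaaaaaaaaaaaaaaaaaaaaaaaaaaaaaaaaaaaaaaaaaaaaaaaaaaaaaaaaaaaaaaaaaaaaaaaaaaaaaaaaaaaaaaaaaaaaaaaaaaaaaaaaaaaaaaaaaaaaaaaaaaaaaaaaaaaaaaaaaaaaaaaaaaaaaaaaaaaaaaaaaaaaaaaaaaaaaaaaaaaaaaaaaaaaaaaaaaaaaaaaaaaaaaaaaaaaaaaaaaaaaaaaaaaaaaaaaaaaaaaaaaaaaaaaaaaaaaaaaaaaaaaaaaaaaaaaaaaaaaaaaaaaaaaaaaaaaaaaaaaaaaaaaaaaaaaaa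

/-- The mask `{a < 2048 | a.testBit k}`. -/
noncomputable def bP (k : ℕ) : ℕ := dig 2048 (onz 2048) BB k

theorem bP_aux : allLT 11 (fun k => force (bP k) fun m => allB 2048 fun a =>
    ite' (tb m a) (tb a k) (not' (tb a k))) = true := by decide +kernel

theorem testBit_bP {k : ℕ} (hk : k < 11) (a : ℕ) :
    (bP k).testBit a = (decide (a < 2048) && a.testBit k) := by
  by_cases ha : a < 2048
  · have := (allB_iff _ _).1 ((force_eq _ _).symm.trans ((allLT_iff _ _).1 bP_aux k hk)) a ha
    rw [ite'_eq, tb_eq, tb_eq] at this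
    split_ifs at this with h
    · simp [h, this, ha]
    · simp [h, ha, (not'_eq_true _).1 this]
  · simp [bP, testBit_dig, ha]

/-- Xor of `f 0, …, f (n-1)`. -/
noncomputable def xorLT (n : ℕ) (f : ℕ → ℕ) : ℕ :=
  Nat.rec (motive := fun _ => ℕ) 0 (fun i ih => Nat.xor ih (f i)) n

theorem xorLT_succ (n : ℕ) (f : ℕ → ℕ) : xorLT (n + 1) f = xorLT n f ^^^ f n := rfl

theorem mod_succ_xor (a n : ℕ) :
    a % 2 ^ (n + 1) = (a % 2 ^ n) ^^^ (if a.testBit n = true then 2 ^ n else 0) := by
  apply Nat.eq_of_testBit_eq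
  intro j
  rw [Nat.testBit_xor, Nat.testBit_mod_two_pow, Nat.testBit_mod_two_pow]
  rcases lt_trichotomy j n with e | e | e
  · split_ifs <;> simp [e, Nat.lt_succ_of_lt e, e.ne']
  · subst e; split_ifs with h <;> simp [h]
  · split_ifs <;> simp [e.ne, not_lt.2 e.le, show ¬ j < n + 1 by omega]

theorem pow_lt {k : ℕ} (hk : k < 11) : 2 ^ k < 2048 :=
  Nat.pow_lt_pow_right (a := 2) (n := 11) (by norm_num) hk

theorem mod_lt' {a : ℕ} (ha : a < 2048) (n : ℕ) : a % n < 2048 := lt_of_le_of_lt (Nat.mod_le _ _) ha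

/-- `C` holds the columns of the additive map `φ`. -/
structure Col (φ : ℕ → ℕ) (C : ℕ) : Prop where
  lt : ∀ a < 2048, φ a < 2048
  xor : ∀ a < 2048, ∀ b < 2048, φ (a ^^^ b) = φ a ^^^ φ b
  col : ∀ k < 11, dig 11 2047 C k = φ (2 ^ k)

/-- Evaluation. -/
noncomputable def app (C a : ℕ) : ℕ := xorLT 11 fun k => ite' (tb a k) (dig 11 2047 C k) 0

/-- The eleven bit planes. -/
noncomputable def pls (C : ℕ) : ℕ :=
  pk 2048 11 fun j => xorLT 11 fun k => ite' (tb C (Nat.add (Nat.mul 11 k) j)) (bP k) 0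

/-- The fibre over `v`. -/
noncomputable def eqm (P v : ℕ) : ℕ := Nat.xor (onz 2048) (orLT 11 fun j =>
  Nat.xor (dig 2048 (onz 2048) P j) (ite' (tb v j) (onz 2048) 0))

/-- Translation by `2^k`. -/
noncomputable def xl1 (k M : ℕ) : ℕ := force (bP k) fun b => force (Nat.shiftLeft 1 k) fun s =>
  Nat.lor (Nat.shiftRight (Nat.land M b) s) (Nat.shiftLeft (Nat.land M (Nat.xor (onz 2048) b)) s)

/-- Translation by `c % 2^n`. -/
noncomputable def xlN (M c n : ℕ) : ℕ :=
  Nat.rec (motive := fun _ => ℕ) (Nat.land M (onz 2048))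
    (fun k ih => ite' (tb c k) (force ih (xl1 k)) ih) n

/-- Translation by `c`. -/
noncomputable def xl (M c : ℕ) : ℕ := xlN M c 11

/-- The span of the first `n` columns. -/
noncomputable def spnN (C n : ℕ) : ℕ :=
  Nat.rec (motive := fun _ => ℕ) 1
    (fun k ih => force ih fun m => force (dig 11 2047 C k) fun c => Nat.lor m (xl m c)) n

/-- The image. -/
noncomputable def spn (C : ℕ) : ℕ := spnN C 11

theorem xl1_aux : allLT 11 (fun k => force (Nat.pow 2 k) fun s => allB 2048 fun a =>
    ite' (tb a k) (and' (Nat.ble s a) (and' (Nat.beq (Nat.xor a s) (Nat.sub a s))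
      (and' (not' (tb (Nat.sub a s) k)) (not' (tb (Nat.add a s) k)))))
      (and' (Nat.blt (Nat.add a s) 2048) (and' (Nat.beq (Nat.xor a s) (Nat.add a s))
        (and' (tb (Nat.add a s) k) (or' (Nat.blt a s) (tb (Nat.sub a s) k)))))) = true := by
  decide +kernel

theorem testBit_xl1 {k : ℕ} (hk : k < 11) (M a : ℕ) :
    (xl1 k M).testBit a = true ↔ a < 2048 ∧ M.testBit (a ^^^ 2 ^ k) = true := by
  have e : xl1 k M = ((M &&& bP k) >>> (2 ^ k)) ||| ((M &&& (onz 2048 ^^^ bP k)) <<< (2 ^ k)) := by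
    rw [← Nat.one_shiftLeft]; simp only [xl1, force_eq]; rfl
  have H : ∀ a < 2048, _ := fun a ha =>
    (allB_iff _ _).1 ((force_eq _ _).symm.trans ((allLT_iff _ _).1 xl1_aux k hk)) a ha
  simp only [ite'_eq, tb_eq, Nat.pow_eq, Nat.add_eq, Nat.sub_eq, Nat.xor_eq] at H
  rw [e]
  simp only [Nat.testBit_or, Nat.testBit_and, Nat.testBit_xor, Nat.testBit_shiftRight,
    Nat.testBit_shiftLeft, testBit_bP hk, testBit_onz, Bool.or_eq_true, Bool.and_eq_true,
    decide_eq_true_eq, add_comm (2 ^ k)]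
  by_cases ha : a < 2048
  · have h := H a ha
    split_ifs at h with h1 <;>
      simp only [and'_eq_true, or'_eq_true, not'_eq_true, ble_iff, blt_iff, beq_iff] at h
    · have : a - 2 ^ k < 2048 := lt_of_le_of_lt (Nat.sub_le _ _) ha
      simp [ha, h.1, h.2.1, h.2.2.1, h.2.2.2, this]
    · have : a - 2 ^ k < 2048 := lt_of_le_of_lt (Nat.sub_le _ _) ha
      rcases h.2.2.2 with h2 | h2
      · simp [ha, h.1, h.2.1, h.2.2.1, not_le.2 h2]
      · simp [ha, h.1, h.2.1, h.2.2.1, h2, this]
  · have h1 : ¬ a + 2 ^ k < 2048 := fun h => ha (lt_of_le_of_lt (Nat.le_add_right _ _) h)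
    by_cases h2 : a - 2 ^ k < 2048
    · have h := H _ h2
      split_ifs at h with h3
      · simp [ha, h1, h2, h3]
      · simp only [and'_eq_true, blt_iff] at h
        have h4 := pow_lt hk
        have h5 := h.1
        generalize 2 ^ k = s at *
        omega
    · simp [ha, h1, h2]

theorem testBit_xlN {n : ℕ} (hn : n ≤ 11) (M c a : ℕ) :
    (xlN M c n).testBit a = true ↔ a < 2048 ∧ M.testBit (a ^^^ c % 2 ^ n) = true := by
  induction n generalizing a with
  | zero =>
    change (M &&& onz 2048).testBit a = true ↔ _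
    simp [testBit_onz, Nat.mod_one, and_comm]
  | succ n ih =>
    change (ite' (tb c n) (force (xlN M c n) (xl1 n)) (xlN M c n)).testBit a = true ↔ _
    rw [ite'_eq, tb_eq, force_eq, mod_succ_xor]
    split_ifs with h
    · rw [testBit_xl1 hn, ih (by omega), Nat.xor_assoc, Nat.xor_comm (2 ^ n)]
      exact ⟨fun h => ⟨h.1, h.2.2⟩, fun h => ⟨h.1, xor_lt h.1 (pow_lt hn), h.2⟩⟩
    · rw [ih (by omega), Nat.xor_zero]

theorem testBit_xl {c : ℕ} (hc : c < 2048) (M a : ℕ) :
    (xl M c).testBit a = true ↔ a < 2048 ∧ M.testBit (a ^^^ c) = true := by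
  rw [xl, testBit_xlN le_rfl, Nat.mod_eq_of_lt (show c < 2 ^ 11 from hc)]

namespace Col
variable {φ : ℕ → ℕ} {C : ℕ} (h : Col φ C)
include h

theorem zero : φ 0 = 0 := by
  have := h.xor 0 (by norm_num) 0 (by norm_num)
  rwa [Nat.xor_self, Nat.xor_self] at this

theorem succ {a n : ℕ} (ha : a < 2048) (hn : n < 11) : φ (a % 2 ^ (n + 1)) =
    φ (a % 2 ^ n) ^^^ (if a.testBit n = true then φ (2 ^ n) else 0) := by
  rw [mod_succ_xor]
  split_ifs
  · exact h.xor _ (mod_lt' ha _) _ (pow_lt hn)
  · simp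

theorem app_eq {a : ℕ} (ha : a < 2048) : app C a = φ a := by
  have : ∀ n ≤ 11, xorLT n (fun k => ite' (tb a k) (dig 11 2047 C k) 0) = φ (a % 2 ^ n) := by
    intro n hn
    induction n with
    | zero => rw [pow_zero, Nat.mod_one, h.zero]; rfl
    | succ n ih => rw [xorLT_succ, ih (by omega), h.succ ha hn, ite'_eq, tb_eq, h.col n hn]
  rw [app, this 11 le_rfl, Nat.mod_eq_of_lt (show a < 2 ^ 11 from ha)]

theorem plane {j : ℕ} (hj : j < 11) (a : ℕ) {n : ℕ} (hn : n ≤ 11) :
    (xorLT n fun k => ite' (tb C (Nat.add (Nat.mul 11 k) j)) (bP k) 0).testBit a =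
      (decide (a < 2048) && (φ (a % 2 ^ n)).testBit j) := by
  induction n with
  | zero => rw [pow_zero, Nat.mod_one, h.zero]; simp [xorLT]
  | succ n ih =>
    have e : C.testBit (11 * n + j) = (φ (2 ^ n)).testBit j := by
      rw [← h.col n hn, show (2047 : ℕ) = onz 11 from rfl, testBit_dig]; simp [hj]
    rw [xorLT_succ, Nat.testBit_xor, ih (by omega), ite'_eq, tb_eq]
    change (_ ^^ (if C.testBit (11 * n + j) = true then _ else _ : ℕ).testBit a) = _
    by_cases ha : a < 2048
    · rw [h.succ ha hn, e, Nat.testBit_xor]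
      split_ifs with h1 h2 h2 <;> simp [*, testBit_bP hn]
    · split_ifs <;> simp [ha, testBit_bP hn]

theorem testBit_eqm {v : ℕ} (hv : v < 2048) (a : ℕ) :
    (eqm (pls C) v).testBit a = true ↔ a < 2048 ∧ φ a = v := by
  have e : ∀ j < 11, (Nat.xor (dig 2048 (onz 2048) (pls C) j)
      (ite' (tb v j) (onz 2048) 0)).testBit a = true ↔
      a < 2048 ∧ (φ a).testBit j ≠ v.testBit j := fun j hj => by
    rw [pls, dig_pk (fun k hk i hi => by
      rw [h.plane hk i le_rfl, Bool.and_eq_true, decide_eq_true_eq] at hi; exact hi.1) hj,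
      Nat.xor_eq, Nat.testBit_xor, h.plane hj a le_rfl, ite'_eq, tb_eq]
    by_cases ha : a < 2048
    · rw [Nat.mod_eq_of_lt (show a < 2 ^ 11 from ha)]
      split_ifs with h1 <;> simp [ha, h1, testBit_onz]
    · split_ifs <;> simp [ha, testBit_onz]
  rw [eqm, Nat.xor_eq, Nat.testBit_xor, testBit_onz]
  by_cases ha : a < 2048
  · simp only [ha, decide_true, Bool.true_bne, Bool.not_eq_true', true_and]
    rw [← Bool.not_eq_true, testBit_orLT]
    constructor
    · intro h1
      apply Nat.eq_of_testBit_eq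
      intro j
      by_contra h2
      by_cases hj : j < 11
      · exact h1 ⟨j, hj, (e j hj).2 ⟨ha, h2⟩⟩
      · apply h2
        rw [Bool.eq_false_iff.2 fun h3 => hj (lt_of_testBit (h.lt a ha) h3),
          Bool.eq_false_iff.2 fun h3 => hj (lt_of_testBit hv h3)]
    · rintro rfl ⟨j, hj, h1⟩
      exact ((e j hj).1 h1).2 rfl
  · simp only [ha, decide_false, Bool.false_bne, false_and, iff_false]
    rw [testBit_orLT]
    rintro ⟨j, hj, h1⟩
    exact ha ((e j hj).1 h1).1

theorem testBit_spn (v : ℕ) : (spn C).testBit v = true ↔ ∃ b < 2048, φ b = v := by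
  have : ∀ n ≤ 11, ∀ v, (spnN C n).testBit v = true ↔ ∃ b < 2048, φ (b % 2 ^ n) = v := by
    intro n hn
    induction n with
    | zero =>
      intro v
      change (1 : ℕ).testBit v = true ↔ _
      simp only [pow_zero, Nat.mod_one, h.zero, Nat.testBit_one_eq_true_iff_self_eq_zero]
      exact ⟨fun e => ⟨0, by norm_num, e.symm⟩, fun ⟨_, _, e⟩ => e.symm⟩
    | succ n ih =>
      intro v
      change (force (spnN C n) fun m => force (dig 11 2047 C n) fun c =>
        Nat.lor m (xl m c)).testBit v = true ↔ _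
      rw [force_eq, force_eq, Nat.lor_eq, Nat.testBit_or, Bool.or_eq_true, h.col n hn,
        testBit_xl (h.lt _ (pow_lt hn)), ih (by omega), ih (by omega)]
      have m1 : ∀ b, (b % 2 ^ n).testBit n = false := fun b => by simp [Nat.testBit_mod_two_pow]
      constructor
      · rintro (⟨b, hb, rfl⟩ | ⟨-, b, hb, e⟩)
        · exact ⟨b % 2 ^ n, mod_lt' hb _, by rw [h.succ (mod_lt' hb _) hn, m1]; simp⟩
        · refine ⟨b % 2 ^ n ^^^ 2 ^ n, xor_lt (mod_lt' hb _) (pow_lt hn), ?_⟩
          rw [h.succ (xor_lt (mod_lt' hb _) (pow_lt hn)) hn, Nat.testBit_xor, m1,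
            Nat.xor_mod_two_pow]
          simp [e]
      · rintro ⟨b, hb, rfl⟩
        rw [h.succ hb hn]
        split_ifs
        · exact .inr ⟨xor_lt (h.lt _ (mod_lt' hb _)) (h.lt _ (pow_lt hn)), b, hb, by simp⟩
        · exact .inl ⟨b, hb, by simp⟩
  rw [spn, this 11 le_rfl]
  exact exists_congr fun b => and_congr_right fun hb => by
    rw [Nat.mod_eq_of_lt (show b < 2 ^ 11 from hb)]

end Col

namespace Md
variable (D : Md)

/-- The columns of `c + 1`. -/
noncomputable def cols (c : ℕ) : ℕ :=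
  pk 11 11 fun k => force (Nat.shiftLeft 1 k) fun a => Nat.xor (D.act c a) a

theorem col (g : M24) : Col (fun a => D.act (cd g) a ^^^ a) (D.cols (cd g)) where
  lt a ha := xor_lt (D.act_lt _ _) ha
  xor a ha b hb := by
    rw [D.act_xor g ha hb]
    simp only [Nat.xor_assoc]
    rw [← Nat.xor_assoc (D.act _ b), Nat.xor_comm (D.act _ b) a, Nat.xor_assoc]
  col k hk := by
    rw [show (2047 : ℕ) = onz 11 from rfl, cols, dig_pk _ hk]
    · rw [force_eq, Nat.shiftLeft_eq', Nat.one_shiftLeft]; rfl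
    · intro k hk j hj
      rw [force_eq, Nat.shiftLeft_eq', Nat.one_shiftLeft] at hj
      exact lt_of_testBit (xor_lt (D.act_lt _ _) (pow_lt hk)) hj

/-- The mask of the fixed vectors. -/
noncomputable def fm (c : ℕ) : ℕ := force (D.cols c) fun C => force (pls C) fun P => eqm P 0

theorem testBit_fm (g : M24) (a : ℕ) :
    (D.fm (cd g)).testBit a = true ↔ a < 2048 ∧ D.act (cd g) a = a := by
  rw [fm, force_eq, force_eq, (D.col g).testBit_eqm (by norm_num), xor_eq_zero']

/-- The mask of the vectors fixed modulo `z0`. -/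
noncomputable def czm (c : ℕ) : ℕ :=
  force (D.cols c) fun C => force (pls C) fun P => Nat.lor (eqm P 0) (eqm P D.z0)

theorem testBit_czm (g : M24) (a : ℕ) :
    (D.czm (cd g)).testBit a = true ↔ a < 2048 ∧ D.cz (cd g) a = true := by
  rw [czm, force_eq, force_eq, Nat.lor_eq, Nat.testBit_or, Bool.or_eq_true,
    (D.col g).testBit_eqm (by norm_num), (D.col g).testBit_eqm D.z0_lt, cz_iff, and_or_left]

/-- The mask of `⁅V, c⁆`. -/
noncomputable def imm (c : ℕ) : ℕ := force (D.cols c) spn

theorem testBit_imm (g : M24) (v : ℕ) :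
    (D.imm (cd g)).testBit v = true ↔ ∃ b < 2048, D.act (cd g) b ^^^ b = v := by
  rw [imm, force_eq, (D.col g).testBit_spn]

theorem mem_fx {X : Subgroup M24} {a : ℕ} :
    a ∈ D.fx X ↔ a < 2048 ∧ ∀ x ∈ X, D.act (cd x) a = a := by
  simp [fx]

end Md

end Cfsg.Agent.R24
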