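import Cfsg.Agent.R24.TabC
import Cfsg.Agent.R24.Tr
import Cfsg.Agent.R24.Lin

/-!
# S3318: finite facts about the hexacode group `E` on the cocode
-/

set_option autoImplicit false

namespace Cfsg.Agent.R24

open Cfsg Cfsg.Agent.Comp Cfsg.Agent.Spor Cfsg.Agent.Spor.M24C Subgroup Md
open scoped Pointwise commutatorElement

namespace CF

def LL : ℕ := 0x88147ab0b46dc8f0a072989d04d8cb1be5463404386ae9960aba0515d8c9bacea432337b88130d30058a2a36554b5877917099957aba888cac5080433a4b70b88302a355d2c29198d43e7053c603048b4b0579b9168c0e5952adbaa92435d07c6a961893b1cab00c415ca37516c4399d3abdac451300804355a5575091b9db3341654258f00443254c99d94f81d62902880b583895d72206090955a302e7c60d2ccf749acb88e0f3a1cc5167213404a86f4b192b558ae9dc8f41e355c930a198d00c226bdd7616aa2522298e070a240b24cb8d2c9118a11b96ca9da024aea44df03ae5415481029b3322c38258fbc5c5bc0433062b494129d1f66a1d551d844352b11a011bed1ade402d26e61d44bc0433062b494129d1f66a1d551d843d2ee14543010b6a99a14c98b821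f38d2c9118a11b96ca9da024aea44df0022eeac44da04a79b1f2540645d8c938de834c8bb320e0dc0988945a4aad42d8a11de01c092356c1a266d2ddd18866893cb56de0612474581d63918a70a0f34e2bb15140c869682f53a984726b20d2221ddac59ec0518a47c268a258a09da0148855bac3b9ab18226fa2eee195a114a33342c07a6a8510ec4c00190975a586479e6d520cc746e52bc4160e2755c129b604a21d54acd6a5a68741a58d5ec329773a64408c40601f3aa092a1e0e0c46db8945b2cc91be5463404386ae9960aba0515d8c9a011034dabb55e70a84920e4c75cb1b8d4c31cb64c48f0cc0b409d06d2b23a4b70b88302a355d2c29198d43e70558ae9dc8f41e355c930a198d00c223ae5415481029b3322c38258fbc5c52206090955a302e7c60d2ccf749acb959879a9a8850855dd2f71ab110023808ea291f1bcd920d40ea0d0d5a4d6808ea291f1bcd920d40ea0d0d5a4d652423900956b04533974bd8f19c10f195479102da898874ef48440f3592b38de834c8bb320e0dc0988945a4aada258a09da0148855bac3b9ab18226f401d7ac60d94caa0b074389e45a4d6251768a58eba8d3941a57d4e81880175a703be2c215153496aa26ed08062401d7ac60d94caa0b074389e45a4d6a011034dabb55e70a84920e4c75cb18a0ec912f46954378a1504dc15a6c6959879a9a8850855dd2f71ab110023041d1b142b30ae77b10924c6aab654726b20d2221ddac59ec0518a47c268b10b714560099d46494369d359bd10601f3aa092a1e0e0c46db8945b2cc9a5a68741a58d5ec329773a64408c40a41c535ea9b3622985eb1a240229875ca37516c4399d3abdac4513008043bdab49ca307b9ac5a928398a418820bdab49ca307b9ac5a928398a418820bdab49ca307b9ac5a928398a418820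

theorem cdE {b : ℕ} (hb : b < 64) : cd (mc (eT b)) = eT b := cd_eT (by omega)

theorem tr1 {h : M24} (hh : h ∈ co.E) (h1 : h ≠ 1) :
    ∃ g ∈ co.S0, g * mc (eT 1) * g⁻¹ = h ∨ g * mc (eT 2) * g⁻¹ = h := by
  obtain ⟨b, hb, e⟩ := mem_coE.1 hh
  have := (allLT_iff _ _).1 (show allLT 64 (fun b => force (eT b) fun x =>
    force (dig 120 1329227995784915872903807060280344575 LL b) fun c => and' (co.okS c)
      (or' (Nat.beq x oneC) (or' (Nat.beq (conjC c (eT 1)) x) (Nat.beq (conjC c (eT 2)) x)))) = true by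
    decide +kernel) b hb
  simp only [force_eq, and'_eq_true, or'_eq_true, beq_iff, e] at this
  refine ⟨_, mem_okS this.1, (this.2.resolve_left fun e1 => h1 (cd_inj (e1.trans cd_one.symm))).imp
    (fun e1 => cd_inj ?_) fun e1 => cd_inj ?_⟩ <;> rw [cd_conj, cd_okS this.1, cdE (by norm_num), e1]

/-- the check for `cf2` -/
noncomputable def ck2 (h c : ℕ) : Bool := and' (okM c) (and' (Nat.beq (mulC c h) (mulC h c))
  (force (co.fm h) fun F => force (co.imm h) fun I => force (co.ft c) fun T => allB 2048 fun a =>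
    or' (tb cWm a) (or' (not' (tb F a)) (not' (tb I (Nat.xor (fa T a) a))))))

theorem of_ck2 {h g : M24} {c : ℕ} (hg : g ∈ co.S0) (k : ck2 (cd h) c = true) :
    ∃ c : M24, c * (g * h * g⁻¹) = g * h * g⁻¹ * c ∧ ∀ a < 2048, co.act (cd (g * h * g⁻¹)) a = a →
      (∃ b < 2048, co.act (cd (g * h * g⁻¹)) b ^^^ b = co.act (cd c) a ^^^ a) → co.inW a := by
  simp only [ck2, and'_eq_true, beq_iff, force_eq, allB_iff, or'_eq_true, not'_eq_true, tb_eq] at k
  obtain ⟨k1, k2, k3⟩ := k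
  refine ⟨g * mc c * g⁻¹, ?_, co.tr_forall g fun a ha => ?_⟩
  · rw [conj_mul, conj_mul, show mc c * h = h * mc c from cd_inj (by rw [cd_mul, cd_mul, cd_mc k1, k2])]
  rw [tr_fix g _ ha, tr_inW tab_co.E_conj hg ha, tr_xor g _ ha ha]
  rintro h1 ⟨b, hb, e⟩
  obtain ⟨b, rfl, hb'⟩ := co.tr_ex g hb
  rw [tr_xor g _ hb' hb', tr_eq g (xor_lt (co.act_lt _ _) hb') (xor_lt (co.act_lt _ _) ha)] at e
  refine (inW_co ha).2 ((k3 a ha).resolve_right (not_or.2 ⟨not_not.2 ((co.testBit_fm h a).2 ⟨ha, h1⟩),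
    not_not.2 ((co.testBit_imm h _).2 ⟨b, hb', ?_⟩)⟩))
  rw [e, ← fa_ft _ _ ha, cd_mc k1]; rfl

theorem of_mask {m w : ℕ} (h : Nat.beq (Nat.land cWm m) (Nat.lor 1 (Nat.shiftLeft 1 834)) = true)
    (hw : w < 2048) (hW : co.inW w) (hm : m.testBit w = true) : w = 0 ∨ w = co.z0 := by
  have : (Nat.land cWm m).testBit w = true := by
    rw [Nat.land_eq, Nat.testBit_and, (inW_co hw).1 hW, hm]; rfl
  rw [(beq_iff _ _).1 h, Nat.lor_eq, Nat.testBit_or, Bool.or_eq_true, Nat.shiftLeft_eq', Nat.one_shiftLeft,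
    Nat.testBit_two_pow, Nat.testBit_one_eq_true_iff_self_eq_zero, decide_eq_true_eq] at this
  exact this.imp_right Eq.symm

/-- the check for `cf3` -/
noncomputable def ck3 (h c d : ℕ) : Bool := and' (and' (co.okS c) (Nat.beq (mulC c h) (mulC h c)))
  (and' (and' (co.okS d) (Nat.beq (mulC d h) (mulC h d)))
    (Nat.beq (Nat.land cWm (Nat.land (co.czm c) (co.czm d))) (Nat.lor 1 (Nat.shiftLeft 1 834))))

theorem of_ck3 {h g : M24} {c d : ℕ} (hg : g ∈ co.S0) (k : ck3 (cd h) c d = true) {w : ℕ} (hw : w < 2048)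
    (hW : co.inW w) (hf : ∀ x ∈ co.S0, x * (g * h * g⁻¹) = g * h * g⁻¹ * x → co.cz (cd x) w = true) :
    w = 0 ∨ w = co.z0 := by
  obtain ⟨w, rfl, hw'⟩ := co.tr_ex g hw
  have key : ∀ c, and' (co.okS c) (Nat.beq (mulC c (cd h)) (mulC (cd h) c)) = true →
      (co.czm c).testBit w = true := fun c k => by
    rw [and'_eq_true, beq_iff] at k
    rw [← cd_okS k.1, testBit_czm, ← tr_cz hg _ hw']
    refine ⟨hw', hf _ (mul_mem (mul_mem hg (mem_okS k.1)) (inv_mem hg)) ?_⟩
    rw [conj_mul, conj_mul, show mc c * h = h * mc c from cd_inj (by rw [cd_mul, cd_mul, cd_okS k.1, k.2])]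
  rw [ck3, and'_eq_true, and'_eq_true (and' _ _)] at k
  rw [tr_z hg hw']
  refine of_mask k.2.2 hw' ((tr_inW tab_co.E_conj hg hw').1 hW) ?_
  rw [Nat.land_eq, Nat.testBit_and, key c k.1, key d k.2.1]; rfl

theorem card_E {Y : Subgroup M24} (Q : ℕ → Bool) (hY : Y ≤ co.E)
    (h : ∀ b < 64, mc (eT b) ∈ Y ↔ Q b = true) : Nat.card Y = cntLT 64 Q := by
  rw [card_of_eT (hY.trans coE_le_Th) (fun b => b < 64 ∧ Q b = true) fun b hb => ⟨fun hy => ?_,
    fun hq => (h b hq.1).2 hq.2⟩, cntLT_eq]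
  · refine congrArg Finset.card (Finset.ext fun b => ?_)
    simp only [Finset.mem_filter, Finset.mem_range]
    exact ⟨fun h => h.2, fun h => ⟨by omega, h⟩⟩
  · obtain ⟨c, hc, e⟩ := mem_coE.1 (hY hy)
    obtain rfl := eT_inj (by omega) hb (e.trans (cd_eT hb))
    exact ⟨hc, (h c hc).1 hy⟩

theorem memE {b : ℕ} (hb : b < 64) : mc (eT b) ∈ co.E := mem_coE.2 ⟨b, hb, (cdE hb).symm⟩

theorem E_comm {x y : M24} (hx : x ∈ co.E) (hy : y ∈ co.E) : x * y = y * x := by
  rw [← inv_eq_of_mul_eq_one_right (tab_co.E_sq _ (mul_mem hx hy)), mul_inv_rev,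
    inv_eq_of_mul_eq_one_right (tab_co.E_sq _ hx), inv_eq_of_mul_eq_one_right (tab_co.E_sq _ hy)]

theorem dec {x : M24} (hx : x ∈ Th) : ∃ i < 16, ∃ e ∈ co.E, x = mc (eT (64 * i)) * e := by
  obtain ⟨b, hb, e⟩ := mem_Th.1 hx
  have := (allB_iff _ _).1 (show allB 1024 (fun b => Nat.beq (eT b)
    (force (eT (Nat.mul 64 (Nat.div b 64))) fun r => force (eT (Nat.mod b 64)) (mulC r))) = true by
      decide +kernel) b hb
  rw [beq_iff, force_eq, force_eq, e] at this
  have h1 : b % 64 < 64 := Nat.mod_lt _ (by norm_num)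
  exact ⟨b / 64, by omega, _, memE h1, cd_inj (by rw [cd_mul, cd_eT (by omega), cdE h1]; exact this)⟩

theorem cz_mul {r e : M24} (hr : r ∈ co.S0) (he : e ∈ co.E) {w : ℕ} (hw : w < 2048) (hW : co.inW w) :
    co.cz (cd (r * e)) w = true ↔ co.cz (cd r) w = true := by
  rw [cz_iff, cz_iff, co.act_mul _ _ hw]
  rcases hW e he with h | h
  · rw [xor_eq_zero'.1 h]
  · rw [show co.act (cd e) w = w ^^^ co.z0 by rw [← h, Nat.xor_comm _ w, ← Nat.xor_assoc, Nat.xor_self,
      Nat.zero_xor], co.act_xor r hw co.z0_lt, (co.mem_S0' r).1 hr, Nat.xor_right_comm]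
    generalize co.act (cd r) w ^^^ w = y
    rw [xor_eq_zero', or_comm]
    exact or_congr_left ⟨fun h => by simpa [Nat.xor_assoc] using congrArg (· ^^^ co.z0) h,
      fun h => by rw [h, Nat.zero_xor]⟩

theorem aux7 : force (pk 2048 64 fun b => force (eT b) co.czm) (fun P => allB 2048 fun a => or' (tb cWm a)
    (Nat.beq (cntLT 64 fun b => tb P (Nat.add (Nat.mul 2048 b) a)) 4)) = true := by
  decide +kernel

theorem aux8 : allLT 16 (fun i => force (eT (Nat.mul 64 i)) fun r => or' (Nat.beq i 0)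
    (or' (force (mulC r r) fun s => allLT 64 fun j => not' (Nat.beq (eT j) s))
      (and' (force (Nat.land cWm (co.czm r)) fun m => Nat.beq (cntPow 11 (tb m)) (ite' (Nat.blt i 8) 32 16))
        (Nat.beq (cntLT 64 fun j => force (eT j) fun h => Nat.beq (mulC h r) (mulC r h))
          (ite' (Nat.blt i 8) 16 8))))) = true := by
  decide +kernel

end CF

open CF

theorem cf1 {h : M24} (hh : h ∈ co.E) {a : ℕ} (ha : a < 2048) :
    co.inW (co.act (cd h) a ^^^ a) := by
  obtain ⟨b, hb, e⟩ := mem_coE.1 hh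
  have := (allLT_iff _ _).1 (show allLT 64 (fun b => force (force (eT b) co.imm) fun I =>
    Nat.beq (Nat.land cWm I) I) = true by decide +kernel) b hb
  rw [force_eq, force_eq, beq_iff, e] at this
  have h1 := (co.testBit_imm h _).2 ⟨a, ha, rfl⟩
  rw [← this, Nat.land_eq, Nat.testBit_and, Bool.and_eq_true] at h1
  exact (inW_co (xor_lt (co.act_lt _ _) ha)).2 h1.1

theorem cf2 {h : M24} (hh : h ∈ co.E) (h1 : h ≠ 1) : ∃ c : M24, c * h = h * c ∧ ∀ a < 2048,
    co.act (cd h) a = a → (∃ b < 2048, co.act (cd h) b ^^^ b = co.act (cd c) a ^^^ a) →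
      co.inW a := by
  obtain ⟨g, hg, rfl | rfl⟩ := tr1 hh h1
  · exact of_ck2 (c := 551141734583690397587189765735843138) hg (by
      rw [cdE (by norm_num)]; decide +kernel)
  · exact of_ck2 (c := oneC) hg (by rw [cdE (by norm_num)]; decide +kernel)

theorem cf3 {h : M24} (hh : h ∈ co.E) (h1 : h ≠ 1) {w : ℕ} (hw : w < 2048) (hW : co.inW w)
    (hf : ∀ g ∈ co.S0, g * h = h * g → co.cz (cd g) w = true) : w = 0 ∨ w = co.z0 := by
  obtain ⟨g, hg, rfl | rfl⟩ := tr1 hh h1
  · exact of_ck3 (c := 236595119435458494344708929440779296) (d := 260165583012796868957759140572170337)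
      hg (by rw [cdE (by norm_num)]; decide +kernel) hw hW hf
  · exact of_ck3 (c := 212377605451771832575418105028331956) (d := 498715864798019576801091737063347853)
      hg (by rw [cdE (by norm_num)]; decide +kernel) hw hW hf

theorem cf4 {h : M24} (hh : h ∈ co.E) :
    h * (mc yC * h * (mc yC)⁻¹) * (mc yC * mc yC * h * (mc yC * mc yC)⁻¹) = 1 := by
  obtain ⟨b, hb, e⟩ := mem_coE.1 hh
  have := (allLT_iff _ _).1 (show allLT 64 (fun b => force (eT b) fun x => force (conjC yC x) fun u =>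
    force (mulC x u) fun v => force (mulC yC yC) fun y2 => force (conjC y2 x) fun w =>
      Nat.beq (mulC v w) oneC) = true by decide +kernel) b hb
  simp only [force_eq, beq_iff, e] at this
  exact cd_inj (by rw [cd_mul, cd_mul, cd_conj, cd_conj, cd_mul, cd_mc ok_yC, this, cd_one])

theorem cf5 {w : ℕ} (hw : w < 2048) (hW : co.inW w) (h : co.cz yC w = true) :
    w = 0 ∨ w = co.z0 := by
  refine of_mask (m := co.czm yC) (by decide +kernel) hw hW ?_
  rw [← cd_mc ok_yC] at h ⊢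
  exact (co.testBit_czm _ w).2 ⟨hw, h⟩

/-- `{h ∈ E | ⁅h,a⁆ ∈ ⟨z⟩}` has order 4 for `a ∉ W`. -/
theorem cf7 {a : ℕ} (ha : a < 2048) (hW : ¬ co.inW a) {Y : Subgroup M24}
    (hY : ∀ h, h ∈ Y ↔ h ∈ co.E ∧ co.cz (cd h) a = true) : Nat.card Y = 4 := by
  have h := aux7
  rw [force_eq, allB_iff] at h
  have h := h a ha
  rw [or'_eq_true, tb_eq, beq_iff] at h
  rw [← h.resolve_left fun h => hW ((inW_co ha).2 h)]
  refine card_E _ (fun h hh => ((hY h).1 hh).1) fun b hb => ?_
  have := testBit_dig 2048 (pk 2048 64 fun b => force (eT b) co.czm) b a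
  rw [dig_pk (fun k hk j hj => by
    rw [force_eq, ← cdE hk, testBit_czm] at hj; exact hj.1) hb, force_eq, ← cdE hb, decide_eq_true ha,
    Bool.true_and] at this
  rw [hY, tb_eq, Nat.add_eq, Nat.mul_eq, ← this, testBit_czm]
  exact and_congr_left' ⟨fun _ => ha, fun _ => memE hb⟩

open Classical in
/-- The pair of numbers is `(32, 16)` for the even and `(16, 8)` for the odd classes. -/
theorem cf8 {x : M24} (hx : x ∈ Th) (hE : x ∉ co.E) (h2 : x * x ∈ co.E) :
    (x ∈ coS1 ∧ ((Finset.range 2048).filter fun w => co.inW w ∧ co.cz (cd x) w = true).card = 32 ∧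
      Nat.card (co.E ⊓ centralizer {x} : Subgroup M24) = 16) ∨
    (x ∉ coS1 ∧ ((Finset.range 2048).filter fun w => co.inW w ∧ co.cz (cd x) w = true).card = 16 ∧
      Nat.card (co.E ⊓ centralizer {x} : Subgroup M24) = 8) := by
  obtain ⟨i, hi, e, he, rfl⟩ := dec hx
  have i1 : 64 * i < 1024 := by omega
  have r1 := (inH_eT i1).mc_mem
  have r2 := cd_eT i1
  have h := (allLT_iff _ _).1 aux8 i hi
  rw [force_eq, Nat.mul_eq, ← r2] at h
  have r3 : mc (eT (64 * i)) * e ∈ coS1 ↔ i < 8 := by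
    have e1 : e ∈ coS1 := by
      obtain ⟨b, hb, e⟩ := mem_coE.1 he
      exact (mem_Th_coS1.2 ⟨b, by omega, e⟩).2
    rw [mul_mem_cancel_right e1]
    refine ⟨fun h => ?_, fun h => (mem_Th_coS1.2 ⟨_, by omega, r2.symm⟩).2⟩
    obtain ⟨b, hb, e⟩ := mem_Th_coS1.1 ⟨r1, h⟩
    have := eT_inj (by omega) i1 (e.trans r2)
    omega
  have i0 : i ≠ 0 := fun e0 => hE (mul_mem (memE (by omega)) he)
  generalize mc (eT (64 * i)) = r at *
  have r4 := Th_le_co r1
  simp only [or'_eq_true, and'_eq_true, beq_iff, force_eq, allLT_iff, not'_eq_true] at h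
  obtain ⟨h3, h4⟩ := (h.resolve_left i0).resolve_left fun h => by
    obtain ⟨j, hj, e⟩ := mem_coE.1 (show r * r ∈ co.E by
      have := mul_mem h2 (inv_mem (mul_mem (tab_co.E_conj _ (inv_mem r4) e he) he))
      rwa [show r * e * (r * e) * (r⁻¹ * e * r⁻¹⁻¹ * e)⁻¹ = r * r by group] at this)
    exact h j hj (by rw [e, cd_mul])
  have h5 : ((Finset.range 2048).filter fun w => co.inW w ∧ co.cz (cd (r * e)) w = true) =
      (Finset.range (2 ^ 11)).filter fun w => tb (Nat.land cWm (co.czm (cd r))) w = true := by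
    refine Finset.filter_congr fun w hw => ?_
    have hw : w < 2048 := Finset.mem_range.1 hw
    rw [tb_eq, Nat.land_eq, Nat.testBit_and, Bool.and_eq_true, testBit_czm, ← inW_co hw]
    exact and_congr_right fun h => (cz_mul r4 he hw h).trans (and_iff_right hw).symm
  rw [cntPow_eq] at h3
  rw [h5, h3, r3, card_E (fun j => Nat.beq (mulC (eT j) (cd r)) (mulC (cd r) (eT j))) inf_le_left
    fun b hb => by
      rw [mem_inf, mem_centralizer_singleton_iff, beq_iff, ← cdE hb, ← cd_mul, ← cd_mul, mc_cd, mul_assoc,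
        ← E_comm (memE hb) he, ← mul_assoc, ← mul_assoc, mul_left_inj]
      exact ⟨fun h => by rw [h.2], fun h => ⟨memE hb, cd_inj h⟩⟩, h4]
  by_cases c : i < 8
  · simp [c, (blt_iff _ _).2 c]
  · simp [c, Bool.eq_false_iff.2 fun h => c ((blt_iff i 8).1 h)]

end Cfsg.Agent.R24
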