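import Cfsg.Agent.R24.Def
import Cfsg.Agent.XT.Base
import Cfsg.Agent.Spor.TypeJ2
import Cfsg.Agent.Spor.MathieuDefs
import Cfsg.Agent.S0243
import Cfsg.Agent.S0280
import Cfsg.Agent.S0364
import Cfsg.Agent.S1059
import Cfsg.Agent.S1163
import Cfsg.Agent.S1625

/-!
# S3318, cocode case: order arithmetic
`n12 = |O⁺₁₂(2)| = 2^31·3^8·5^2·7^2·11·17·31`.  Orders: grep `card_PSL`/`S0280` (PSU), `S2755`
(`not_three_dvd`, Suzuki), `Chev/G2Nil.card_G2`, `card_M22`, `card_M23`, `card_M24`, `isM12_M12`,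
`card_J2`, the order of `J3` (`S16xx/S17xx`, grep `50232960`), see also `S1774`, `XT/Main`.
-/

set_option autoImplicit false

namespace Cfsg.Agent.R24

open Cfsg Cfsg.Agent.Comp Cfsg.Agent.Spor Cfsg.Agent.Spor.M24C Subgroup
open scoped Pointwise commutatorElement

/-- The order of `O⁺₁₂(2)`. -/
def n12 : ℕ := 2 * 2 ^ 30 * 63 * (3 * 15 * 63 * 255 * 1023)

theorem val78 {u v k N : ℕ} (hu : Odd u) (hv : Odd v) (e : u * N = 2 ^ k * v) (h7 : 2 ^ 7 ∣ N)
    (h9 : ¬ 2 ^ 9 ∣ N) : k = 7 ∨ k = 8 := by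
  have h1 : 7 ≤ k := (Nat.pow_dvd_pow_iff_le_right one_lt_two).1
    ((Nat.Coprime.pow_left 7 (Nat.coprime_two_left.2 hv)).dvd_of_dvd_mul_right
      (e ▸ h7.mul_left u))
  by_contra! k9
  exact h9 ((Nat.Coprime.pow_left 9 (Nat.coprime_two_left.2 hu)).dvd_of_dvd_mul_left
    (e ▸ (pow_dvd_pow 2 (by omega)).mul_right v))

theorem cardA {L : Type*} [Group L] {k : ℕ} (hk : 2 ≤ k)
    (h : Nonempty (L ≃* ↥(alternatingGroup (Fin k)))) : Nat.card L = k.factorial / 2 := by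
  have : Nontrivial (Fin k) := Fin.nontrivial_iff_two_le.2 hk
  rw [Nat.card_congr h.some.toEquiv, nat_card_alternatingGroup, Nat.card_eq_fintype_card,
    Fintype.card_fin]

/-- The list of `S1764`.  `PSL_n(2^a)` has 2-part `2^{a n(n-1)/2}`, so `n = 2`, `a = 7, 8`, and
`127`, `257` do not divide `n12`; `PSU₃(2^m)` has 2-part `8^m`; `23 ∤ n12`. -/
theorem ordT {L : Type*} [Group L] [Finite L]
    (h : (∃ (F : Type) (_ : Field F) (_ : Fintype F) (n : ℕ), ringChar F = 2 ∧ 2 ≤ n ∧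
        Nonempty (L ≃* Matrix.ProjectiveSpecialLinearGroup (Fin n) F)) ∨ Cfsg.Lie.IsoSuzuki L ∨
      (∃ (F : Type) (_ : Field F) (_ : Fintype F) (m : ℕ), Fintype.card F = 4 ^ m ∧
        Nonempty (L ≃* Cfsg.PSU 3 F (2 ^ m))) ∨
      (∃ k : ℕ, 6 ≤ k ∧ k ≤ 9 ∧ Nonempty (L ≃* ↥(alternatingGroup (Fin k)))) ∨
      Cfsg.Spor.IsoM22 L ∨ Cfsg.Spor.IsoM23 L ∨ Cfsg.Spor.IsoM24 L)
    (h7 : 2 ^ 7 ∣ Nat.card L) (h9 : ¬ 2 ^ 9 ∣ Nat.card L) (h3 : 3 ∣ Nat.card L)
    (hd : Nat.card L ∣ n12) : Cfsg.Spor.IsoM22 L := by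
  rcases h with ⟨F, _, _, n, hF, hn, ⟨e⟩⟩ | ⟨F, _, _, m, hm, hF, ⟨e⟩⟩ | ⟨F, _, _, m, hF, ⟨e⟩⟩ |
    ⟨k, k6, k9, e⟩ | h | ⟨⟨e⟩⟩ | ⟨⟨e⟩⟩
  · have : CharP F 2 := ringChar.of_eq hF
    obtain ⟨a, -, ha⟩ := FiniteField.card F 2
    have c := S0243.result ha n hn
    rw [← Nat.card_congr e.toEquiv] at c
    have od : ∀ j, 0 < j → Odd ((2 ^ (a : ℕ)) ^ j - 1) := fun j hj =>
      Nat.Even.sub_odd (Nat.one_le_pow _ _ (by positivity))
        ((even_two.pow_of_ne_zero a.ne_zero).pow_of_ne_zero hj.ne') odd_one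
    have o1 := od 1 one_pos
    rw [pow_one] at o1
    have pr : ∏ i : Fin n, ((2 ^ (a : ℕ)) ^ n - (2 ^ (a : ℕ)) ^ (i : ℕ)) =
        2 ^ (a * ∑ i ∈ Finset.range n, i) * ∏ i : Fin n, ((2 ^ (a : ℕ)) ^ (n - i) - 1) := by
      rw [pow_mul, ← Finset.prod_pow_eq_pow_sum, Finset.prod_range, ← Finset.prod_mul_distrib]
      refine Finset.prod_congr rfl fun i _ => ?_
      rw [Nat.mul_sub, ← pow_add, mul_one, Nat.add_sub_cancel' i.2.le]
    have v := val78 ((Odd.of_dvd_nat o1 (Nat.gcd_dvd_right n _)).mul o1)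
      (Finset.prod_induction _ Odd (fun _ _ => Odd.mul) odd_one fun i _ =>
        od _ (Nat.sub_pos_of_lt i.2)) (((mul_assoc _ _ _).trans c).trans pr) h7 h9
    have t := Finset.sum_range_id_mul_two n
    have t8 : ∑ i ∈ Finset.range n, i ≤ 8 := by
      have := Nat.le_mul_of_pos_left (∑ i ∈ Finset.range n, i) a.pos
      omega
    have n4 : n ≤ 4 := by
      by_contra! k
      have : 5 * 4 ≤ n * (n - 1) := Nat.mul_le_mul k (by omega)
      omega
    interval_cases n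
    · have : Nat.card L = 128 * 16383 ∨ Nat.card L = 256 * 65535 := by
        simp only [Finset.sum_range_succ, Finset.range_zero, Finset.sum_empty, zero_add,
          mul_one] at v
        rcases v with v | v <;> rw [v] at c <;> simp [Fin.prod_univ_two] at c <;> omega
      rcases this with k | k <;> rw [k] at hd <;> exact absurd hd (by decide)
    · simp [Finset.sum_range_succ] at v
      omega
    · simp [Finset.sum_range_succ] at v
      omega
  · refine absurd h3 ?_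
    rw [Nat.card_congr e.toEquiv, (S1163.result hm hF).1]
    have h1 : 2 ^ (2 * m + 1) % 3 = 2 := by
      rw [pow_succ, pow_mul, Nat.mul_mod, Nat.pow_mod]; simp
    generalize 2 ^ (2 * m + 1) = q at h1
    obtain ⟨r, rfl⟩ : ∃ r, q = 3 * r + 2 := ⟨q / 3, by omega⟩
    simp only [Nat.Prime.dvd_mul Nat.prime_three, not_or]
    refine ⟨⟨fun h => ?_, by omega⟩, fun h => ?_⟩
    · have := Nat.prime_three.dvd_of_dvd_pow h
      omega
    · rw [show (3 * r + 2) ^ 2 + 1 = 3 * (3 * r ^ 2 + 4 * r + 1) + 2 by ring] at h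
      omega
  · have m0 : m ≠ 0 := by
      rintro rfl
      exact Fintype.one_lt_card.ne' hF
    have c := S0280.result (q := 2 ^ m) (by rw [hF, ← pow_mul, mul_comm, pow_mul]; rfl) 3
      (by norm_num)
    rw [← Nat.card_congr e.toEquiv, ← mul_assoc, ← pow_mul] at c
    have ev : Even (2 ^ m) := even_two.pow_of_ne_zero m0
    have := val78 ((Odd.of_dvd_nat (by decide : Odd 3) (Nat.gcd_dvd_left _ _)).mul ev.add_one)
      (Finset.prod_induction _ Odd (fun _ _ => Odd.mul) odd_one fun i _ => by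
        split_ifs
        · exact (ev.pow_of_ne_zero i.succ_ne_zero).add_one
        · exact Nat.Even.sub_odd (Nat.one_le_pow _ _ (by positivity))
            (ev.pow_of_ne_zero i.succ_ne_zero) odd_one) c h7 h9
    omega
  · rw [cardA (by omega) e] at h7
    interval_cases k <;> exact absurd h7 (by decide)
  · exact h
  · rw [Nat.card_congr e.toEquiv, isM23_M23.2] at hd
    exact absurd hd (by decide)
  · rw [Nat.card_congr e.toEquiv, S0364.result] at hd
    exact absurd hd (by decide)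

/-- `z` is 2-central and `Z(Sylow) ≤ C(R) = ⟨z⟩`; `Spor.TypeJ2.data` gives a 2-central involution
with centraliser of order 1920. -/
theorem notJ2 {L : Type*} [Group L] [Finite L] {R : Subgroup L} {z : L} (h : TT.LX R z)
    (hc : Nat.card (centralizer ({z} : Set L)) = 1152) : ¬ Cfsg.Spor.IsoJ2 L := by
  rintro ⟨e⟩
  obtain ⟨Q, w, hQ, -, hw, -⟩ := TypeJ2.data
  have ce : ∀ f : Cfsg.Spor.J2 ≃* L, Nat.card (centralizer ({f w} : Set L)) = 1920 := fun f => by
    rw [← hw]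
    refine (Nat.card_congr (f.toEquiv.subtypeEquiv fun a => ?_)).symm
    simp only [mem_centralizer_singleton_iff, MulEquiv.toEquiv_eq_coe, EquivLike.coe_coe,
      ← map_mul, EmbeddingLike.apply_eq_iff_eq]
  have : Fact (Nat.Prime 2) := ⟨Nat.prime_two⟩
  obtain ⟨x, hx⟩ := h.toXS.isPGroup.nonempty_fixed_point_of_prime_not_dvd_card
    (L ⧸ centralizer ({e.symm w} : Set L)) (by
      have := (centralizer ({e.symm w} : Set L)).index_mul_card
      rw [ce, Nat.card_congr e.toEquiv, ModelJ2.card_J2] at this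
      rw [← index_eq_card]
      omega)
  obtain ⟨g, rfl⟩ := QuotientGroup.mk_surjective x
  have := h.eq_of_comm (c := g * e.symm w * g⁻¹) fun r hr => by
    have : (r * g)⁻¹ * g * e.symm w = e.symm w * ((r * g)⁻¹ * g) :=
      mem_centralizer_singleton_iff.1 (QuotientGroup.eq.1 (hx ⟨r, hr⟩ :
      ((r * g : L) : L ⧸ centralizer ({e.symm w} : Set L)) = (g : L)))
    calc r * (g * e.symm w * g⁻¹) = r * g * (e.symm w * ((r * g)⁻¹ * g)) * g⁻¹ * r := by group
      _ = _ := by rw [← this]; group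
  rcases this with k | k
  · exact hQ.z_ne (e.symm.map_eq_one_iff.1 (conj_eq_one_iff.1 k))
  · have := ce (e.symm.trans (MulAut.conj g))
    rw [show (e.symm.trans (MulAut.conj g)) w = z from k, hc] at this
    omega

/-- The list of `S1759`: 2-parts `2^5, 2^7, 2^6, 2^7 (13 ∤ n12), 2^6, 2^6, 2^6, 2^6, 2^7,
2^7 (19 ∤ n12)`. -/
theorem ordN {L : Type*} [Group L] [Finite L] (h : XT.Concl L) (h7 : 2 ^ 7 ∣ Nat.card L)
    (hd : Nat.card L ∣ n12) (hJ : ¬ Cfsg.Spor.IsoJ2 L) :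
    ∃ (F : Type) (_ : Field F) (_ : Fintype F), Fintype.card F = 9 ∧
      Nonempty (L ≃* Cfsg.PSU 4 F 3) := by
  have cU : ∀ {F : Type} [Field F] [Fintype F] {n q : ℕ}, Fintype.card F = q ^ 2 → 2 ≤ n →
      Nonempty (L ≃* PSU n F q) → Nat.gcd n (q + 1) * ((q + 1) * Nat.card L) =
        q ^ (n * (n - 1) / 2) * ∏ i ∈ Finset.range n,
          (if Even i then q ^ (i + 1) + 1 else q ^ (i + 1) - 1) := fun a b ⟨e⟩ => by
    rw [Nat.card_congr e.toEquiv]
    exact S0280.result a _ b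
  rcases h with ⟨F, _, _, a, h | h⟩ | ⟨F, _, _, a, h⟩ | ⟨F, _, _, a, ⟨⟨e⟩⟩ | ⟨⟨e⟩⟩⟩ | h | h | ⟨⟨e⟩⟩ |
    h | ⟨F, _, _, ω, a, b, ⟨e⟩⟩
  · have := cU a (by norm_num) h
    simp +decide [Finset.prod_range_succ] at this
    omega
  · exact ⟨F, _, _, a, h⟩
  · have := cU a (by norm_num) h
    simp +decide [Finset.prod_range_succ] at this
    omega
  · have := S0243.result a 4 (by norm_num)
    rw [← Nat.card_congr e.toEquiv] at this
    simp [Fin.prod_univ_four] at this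
    rw [show Nat.card L = 6065280 by omega] at hd
    exact absurd hd (by decide)
  · rw [Nat.card_congr e.toEquiv, S1059.result a] at h7
    exact absurd h7 (by decide)
  · rw [cardA (by omega) h] at h7
    exact absurd h7 (by decide)
  · rw [cardA (by omega) h] at h7
    exact absurd h7 (by decide)
  · rw [Nat.card_congr e.toEquiv, isM12_M12.2] at h7
    exact absurd h7 (by decide)
  · exact absurd h hJ
  · rw [Nat.card_congr e.toEquiv, (S1625.result F a ω b).2.2.1] at hd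
    exact absurd hd (by decide)

end Cfsg.Agent.R24
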