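import Cfsg.Agent.R24.Enum2

/-!
# S3318: the trio group on the Golay module
-/

set_option autoImplicit false

namespace Cfsg.Agent.R24

open Cfsg Cfsg.Agent.Comp Cfsg.Agent.Spor Cfsg.Agent.Spor.M24C Subgroup
open scoped Pointwise commutatorElement

/-- Generators of `O₂` of the trio group. -/
def trG : List ℕ := [720981692062171673584743151055243296, 220121809236599362611927091125488641,
  220213109803259289183002082616117280, 984778822338565988800583747246260322,
  479781250515140496485861228390940770, 984732119814230247827912293760608644]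

/-- `O₂` of the trio group. -/
noncomputable def trY : Subgroup M24 := gen trG

/-- The mask of the 8-dimensional subspace invariant under the trio group. -/
def v8 : ℕ := 0x80011008800110088001100880011008042002400420024004200240042002408001100880011008800110088001100804200240042002400420024004200240800110088001100880011008800110080420024004200240042002400420024080011008800110088001100880011008042002400420024004200240042002400240042002400420024004200240042010088001100880011008800110088001024004200240042002400420024004201008800110088001100880011008800102400420024004200240042002400420100880011008800110088001100880010240042002400420024004200240042010088001100880011008800110088001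


/-- `m` is the mask of the involutions of the elementary abelian group `X ≤ Th`. -/
structure XM (X : Subgroup M24) (m : ℕ) : Prop where
  le : X ≤ Th
  sq : ∀ x ∈ X, x * x = 1
  xm : ∀ i, m.testBit i = true ↔ i < 191 ∧ mc (iv i) ∈ X

theorem Nd.toXM {D : Md} {X : Subgroup M24} {r Xm Cm : ℕ} (h : Nd D X r Xm Cm) : XM X Xm :=
  ⟨h.le, h.sq, h.xm⟩

theorem XM.ex {X : Subgroup M24} {m : ℕ} (h : XM X m) {x : M24} (hx : x ∈ X) :
    x = 1 ∨ ∃ i < 191, m.testBit i = true ∧ mc (iv i) = x := by
  by_cases e : x = 1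
  · exact .inl e
  obtain ⟨i, hi, rfl⟩ := exists_iv (h.le hx) e (h.sq x hx)
  exact .inr ⟨i, hi, (h.xm i).2 ⟨hi, hx⟩, rfl⟩

theorem XM.eq {X X' : Subgroup M24} {m : ℕ} (h : XM X m) (h' : XM X' m) : X = X' := by
  have : ∀ {X X' : Subgroup M24}, XM X m → XM X' m → X ≤ X' := fun h h' x hx => by
    rcases h.ex hx with rfl | ⟨i, -, h1, rfl⟩
    · exact one_mem _
    · exact ((h'.xm i).1 h1).2
  exact le_antisymm (this h h') (this h' h)

theorem card_le_bs {X : Subgroup M24} {m : ℕ}
    (h : ∀ x ∈ X, x ≠ 1 → ∃ i, m.testBit i = true ∧ mc (iv i) = x) :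
    Nat.card X ≤ (bs m).card + 1 := by
  classical
  have : (X : Set M24) ⊆ (insert 1 ((bs m).image fun i => mc (iv i)) : Finset M24) := fun x hx => by
    by_cases e : x = 1
    · simp [e]
    · obtain ⟨i, h1, rfl⟩ := h x hx e
      exact Finset.mem_coe.2 (Finset.mem_insert_of_mem (Finset.mem_image_of_mem _ (mem_bs.2 h1)))
  have h2 := Set.ncard_le_ncard this (Finset.finite_toSet _)
  rw [Set.ncard_coe_finset] at h2
  exact h2.trans ((Finset.card_insert_le _ _).trans (Nat.succ_le_succ Finset.card_image_le))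

theorem XM.card {X : Subgroup M24} {m : ℕ} (h : XM X m) : Nat.card X = (bs m).card + 1 := by
  classical
  have : (X : Set M24) = (insert 1 ((bs m).image fun i => mc (iv i)) : Finset M24) := by
    ext x
    simp only [Finset.coe_insert, Finset.coe_image, Set.mem_insert_iff, Set.mem_image,
      mem_bs, SetLike.mem_coe]
    constructor
    · exact fun hx => (h.ex hx).imp id fun ⟨i, _, a, b⟩ => ⟨i, a, b⟩
    · rintro (rfl | ⟨i, a, rfl⟩)
      · exact one_mem _
      · exact ((h.xm i).1 a).2
  rw [← SetLike.coe_sort_coe, Nat.card_coe_set_eq, this, Set.ncard_coe_finset,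
    Finset.card_insert_of_notMem, Finset.card_image_of_injOn fun i hi j hj e =>
      iv_inj ((h.xm i).1 (mem_bs.1 hi)).1 ((h.xm j).1 (mem_bs.1 hj)).1 e]
  simp only [Finset.mem_image, not_exists, not_and]
  exact fun i hi => iv_ne_one ((h.xm i).1 (mem_bs.1 hi)).1

/-- The involutions of the trio group. -/
def yM : ℕ := 0x3cb0000bcb00000000bcb00000000ff02f2c3fc0ff000ff0
/-- The involutions of the hexacode group. -/
def hM : ℕ := 0x282aaff000000000aaa82ff000fffd2000000000000ffd2f
/-- The involutions of `go.E`. -/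
def eM : ℕ := 0x80810a000002000600001040100005020000400

theorem lt_of_bit {m n i : ℕ} (hm : m < 2 ^ n) (h : m.testBit i = true) : i < n :=
  (Nat.pow_lt_pow_iff_right (by norm_num)).1 (lt_of_le_of_lt (Nat.ge_two_pow_of_testBit h) hm)

theorem yM_lt {i : ℕ} (h : yM.testBit i = true) : i < 191 := lt_of_bit (by decide) h

theorem ok_trG : allL trG okM = true := by decide +kernel

/-- Products of subsets. -/
noncomputable def prodG (l : List ℕ) : ℕ → ℕ :=
  List.rec (motive := fun _ => ℕ → ℕ) (fun _ => oneC) (fun c _ ih m =>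
    force (ih (Nat.shiftRight m 1)) fun d => ite' (tb m 0) (mulC c d) d) l

theorem inH_prodG {K : Subgroup M24} {l : List ℕ} (h : ∀ c ∈ l, InH K c) (m : ℕ) :
    InH K (prodG l m) := by
  induction l generalizing m with
  | nil => exact ⟨1, one_mem _, code_one⟩
  | cons c l ih =>
    change InH K (force (prodG l (Nat.shiftRight m 1)) fun d => ite' (tb m 0) (mulC c d) d)
    have := ih (fun c hc => h c (List.mem_cons_of_mem _ hc)) (Nat.shiftRight m 1)
    rw [force_eq, ite'_eq]
    split_ifs
    · exact (h c List.mem_cons_self).mul this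
    · exact this

theorem trY_aux : and' (allL trG fun c => and' (anyF (fun k => Nat.beq (iv k) c) 64 yM)
      (allF (fun i => force (iv i) fun e => force (mulC c e) fun d => or' (Nat.beq d oneC)
        (anyF (fun k => Nat.beq (iv k) d) 64 yM)) 64 yM))
    (allF (fun i => force (iv i) fun e => anyLT 64 fun m => Nat.beq (prodG trG m) e) 64 yM)
    = true := by decide +kernel

theorem mem_trY {g : M24} : g ∈ trY ↔ g = 1 ∨ ∃ i, yM.testBit i = true ∧ mc (iv i) = g := by
  have h := trY_aux
  simp only [and'_eq_true, allL_iff] at h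
  constructor
  · intro hg
    have := forall_gen ok_trG (fun x => x = oneC ∨ ∃ i, yM.testBit i = true ∧ iv i = x)
      (.inl rfl) (by
        rintro c hc _ (rfl | ⟨i, hi, rfl⟩)
        · obtain ⟨k, h1, h2⟩ := of_anyF (h.1 c hc).1
          refine .inr ⟨k, h1, ?_⟩
          rw [← cd_mc ((allL_iff _ _).1 ok_trG c hc), ← cd_one, ← cd_mul, mul_one,
            cd_mc ((allL_iff _ _).1 ok_trG c hc)]
          exact (beq_iff _ _).1 h2
        · have := of_allF (h.1 c hc).2 hi
          simp only [force_eq, or'_eq_true, beq_iff] at this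
          exact this.imp id fun h => (of_anyF h).imp fun k h => ⟨h.1, (beq_iff _ _).1 h.2⟩) g hg
    exact this.imp (fun e => cd_inj (e.trans cd_one.symm)) fun ⟨i, a, b⟩ =>
      ⟨i, a, by rw [b, mc_cd]⟩
  · rintro (rfl | ⟨i, hi, rfl⟩)
    · exact one_mem _
    · have := of_allF h.2 hi
      simp only [force_eq, anyLT_iff, beq_iff] at this
      obtain ⟨m, -, e⟩ := this
      exact e ▸ (inH_prodG (inH_gen ok_trG) m).mc_mem

theorem xm_trY : XM trY yM where
  le g hg := by
    rcases mem_trY.1 hg with rfl | ⟨i, hi, rfl⟩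
    · exact one_mem _
    · exact iv_mem (yM_lt hi)
  sq g hg := by
    rcases mem_trY.1 hg with rfl | ⟨i, hi, rfl⟩
    · exact one_mul _
    · exact iv_sq (yM_lt hi)
  xm i := ⟨fun h => ⟨yM_lt h, mem_trY.2 (.inr ⟨i, h, rfl⟩)⟩, fun ⟨hi, h⟩ => by
    rcases mem_trY.1 h with e | ⟨j, hj, e⟩
    · exact absurd e (iv_ne_one hi)
    · rwa [← iv_inj (yM_lt hj) hi e]⟩

theorem hM_aux : allB 191 (fun i => force (iv i) fun e => and'
    (ite' (tb hM i) (anyLT 64 fun b => Nat.beq (eT b) e) (not' (anyLT 64 fun b => Nat.beq (eT b) e)))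
    (or' (not' (tb eM i)) (anyL goEl fun b => Nat.beq (eT b) e))) = true := by decide +kernel

theorem eT_sq_aux : allLT 64 (fun b => force (eT b) fun c => Nat.beq (mulC c c) oneC) = true := by
  decide +kernel

theorem xm_coE : XM co.E hM where
  le := coE_le_Th
  sq g hg := by
    obtain ⟨b, hb, e⟩ := mem_coE.1 hg
    have := (allLT_iff _ _).1 eT_sq_aux b hb
    rw [force_eq, beq_iff, e, ← cd_mul, ← cd_one] at this
    exact cd_inj this
  xm i := by
    have h : i < 191 → (hM.testBit i = true ↔ mc (iv i) ∈ co.E) := fun hi => by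
      have := (allB_iff _ _).1 hM_aux i hi
      simp only [force_eq, and'_eq_true, ite'_eq, tb_eq] at this
      rw [mem_coE, cd_iv hi]
      have := this.1
      split_ifs at this with h1 <;> simp only [not'_eq_true, anyLT_iff, beq_iff] at this
      · exact ⟨fun _ => this, fun _ => h1⟩
      · exact ⟨fun h => absurd h h1, fun h => absurd h this⟩
    exact ⟨fun e => ⟨lt_of_bit (by decide) e, (h (lt_of_bit (by decide) e)).1 e⟩,
      fun e => (h e.1).2 e.2⟩

theorem mem_of_eM {i : ℕ} (hi : i < 191) (h : eM.testBit i = true) : mc (iv i) ∈ go.E := by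
  have := (allB_iff _ _).1 hM_aux i hi
  simp only [force_eq, and'_eq_true, or'_eq_true, not'_eq_true, tb_eq, anyL_iff, beq_iff] at this
  rw [mem_goE, cd_iv hi]
  exact this.2.resolve_left (not_not.2 h)

theorem card_trY : Nat.card trY = 64 := by
  rw [xm_trY.card, ← (beq_iff _ _).1 (of_cntF (k := Nat.beq 63) (n := 64) (x := yM)
    (by decide +kernel))]

theorem Md.mem_fx_gen (D : Md) {l : List ℕ} (hl : allL l okM = true) {a : ℕ} :
    a ∈ D.fx (gen l) ↔ a < 2048 ∧ ∀ c ∈ l, D.act c a = a := by
  rw [D.mem_fx]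
  refine and_congr_right fun ha => ⟨fun h c hc => ?_, fun h x hx => ?_⟩
  · simpa only [cd_mc ((allL_iff _ _).1 hl c hc)] using h _ (inH_gen hl c hc).mc_mem
  · refine (D.mem_stab ha).1 ((closure_le (D.stab a)).2 ?_ hx)
    rintro _ ⟨c, hc, rfl⟩
    exact (D.mem_stab ha).2 (by rw [cd_mc ((allL_iff _ _).1 hl c hc)]; exact h c hc)

theorem fx_trY_aux : allB 2048 (fun a => ite' (allL trG fun c => Nat.beq (go.act c a) a)
    (anyL [0, 256, 1183, 1439] (Nat.beq a)) (not' (anyL [0, 256, 1183, 1439] (Nat.beq a))))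
    = true := by decide +kernel

theorem fx_trY : go.fx trY = {0, 256, 1183, 1439} := by
  ext a
  rw [trY, go.mem_fx_gen ok_trG]
  by_cases ha : a < 2048
  · have := (allB_iff _ _).1 fx_trY_aux a ha
    simp only [ite'_eq, allL_iff, beq_iff] at this
    split_ifs at this with h <;> simp only [not'_eq_true, anyL_iff, beq_iff] at this
    · exact ⟨fun _ => by simpa using this, fun _ => ⟨ha, h⟩⟩
    · exact ⟨fun e => absurd e.2 h, fun e => absurd (by simpa using e) this⟩
  · simp only [Finset.mem_insert, Finset.mem_singleton]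
    exact ⟨fun e => absurd e.1 ha, fun e => by omega⟩

theorem card_fx_trY : (go.fx trY).card = 4 := by rw [fx_trY]; rfl

/-- The vectors moved inside `fx trY`. -/
noncomputable def m4 (c : ℕ) : ℕ := force (go.cols c) fun C => force (pls C) fun P =>
  Nat.lor (Nat.lor (eqm P 0) (eqm P 256)) (Nat.lor (eqm P 1183) (eqm P 1439))

theorem testBit_m4 (g : M24) {a : ℕ} (ha : a < 2048) :
    (m4 (cd g)).testBit a = true ↔ go.act (cd g) a ^^^ a ∈ go.fx trY := by
  simp only [m4, force_eq, Nat.lor_eq, Nat.testBit_or, Bool.or_eq_true, fx_trY, Finset.mem_insert,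
    Finset.mem_singleton]
  rw [(go.col g).testBit_eqm (by norm_num), (go.col g).testBit_eqm (by norm_num),
    (go.col g).testBit_eqm (by norm_num), (go.col g).testBit_eqm (by norm_num)]
  simp only [ha, true_and, or_assoc]

/-- `A ⊆ B` for masks. -/
noncomputable def sub (A B : ℕ) : Bool := Nat.beq (Nat.land A B) A

theorem sub_iff {A B : ℕ} : sub A B = true ↔ ∀ i, A.testBit i = true → B.testBit i = true := by
  rw [sub, beq_iff, Nat.land_eq]
  constructor
  · intro h i hi
    rw [← h, Nat.testBit_and, Bool.and_eq_true] at hi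
    exact hi.2
  · intro h
    apply Nat.eq_of_testBit_eq
    intro i
    rw [Nat.testBit_and]
    cases e : A.testBit i
    · rfl
    · rw [h i e]; rfl

/-- The mask of `⁅V, c⁆`. -/
noncomputable def Md.imF (D : Md) (c : ℕ) : ℕ := force (D.cols c) spnF

theorem Md.testBit_imF (D : Md) (g : M24) (v : ℕ) :
    (D.imF (cd g)).testBit v = true ↔ ∃ b < 2048, D.act (cd g) b ^^^ b = v := by
  rw [Md.imF, force_eq, spnF_eq, (D.col g).testBit_spn]

theorem v8_aux : and' (allF (fun i => force (iv i) fun c =>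
      and' (sub v8 (m4 c)) (sub (go.imF c) v8)) 64 yM)
    (and' (sub (Nat.land (Nat.land (Nat.land (m4 (iv 4)) (m4 (iv 5))) (m4 (iv 6)))
      (Nat.land (Nat.land (m4 (iv 7)) (m4 (iv 24))) (m4 (iv 38)))) v8) (sub gWm v8)) = true := by
  decide +kernel

theorem v8_iff {a : ℕ} (ha : a < 2048) :
    v8.testBit a = true ↔ ∀ x ∈ trY, go.act (cd x) a ^^^ a ∈ go.fx trY := by
  have h := v8_aux
  simp only [and'_eq_true, sub_iff] at h
  constructor
  · intro h1 x hx
    rcases mem_trY.1 hx with rfl | ⟨i, hi, rfl⟩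
    · rw [go.act_one ha, Nat.xor_self, fx_trY]; simp
    · have := of_allF h.1 hi
      simp only [force_eq, and'_eq_true, sub_iff] at this
      rw [← testBit_m4 _ ha, cd_iv (yM_lt hi)]
      exact this.1 a h1
  · intro h1
    have e : ∀ i, yM.testBit i = true → (m4 (iv i)).testBit a = true := fun i hi => by
      rw [← cd_iv (yM_lt hi), testBit_m4 _ ha]; exact h1 _ (mem_trY.2 (.inr ⟨i, hi, rfl⟩))
    refine h.2.1 a ?_
    simp only [Nat.land_eq, Nat.testBit_and, e 4 (by decide), e 5 (by decide), e 6 (by decide),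
      e 7 (by decide), e 24 (by decide), e 38 (by decide), Bool.and_self]

theorem card_v8 : ((Finset.range 2048).filter fun a => v8.testBit a = true).card = 256 := by
  decide +kernel

theorem v8_of_inW {a : ℕ} (ha : a < 2048) (h : go.inW a) : v8.testBit a = true := by
  have h1 := v8_aux
  simp only [and'_eq_true, sub_iff] at h1
  exact h1.2.2 a ((inW_go ha).1 h)

theorem comm_v8 {x : M24} (hx : x ∈ trY) {a : ℕ} (ha : a < 2048) :
    v8.testBit (go.act (cd x) a ^^^ a) = true := by
  rcases mem_trY.1 hx with rfl | ⟨i, hi, rfl⟩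
  · rw [go.act_one ha, Nat.xor_self]; decide
  · have := of_allF ((and'_eq_true _ _).1 v8_aux).1 hi
    simp only [force_eq, and'_eq_true, sub_iff] at this
    refine this.2 _ ?_
    rw [← cd_iv (yM_lt hi), go.testBit_imF, cd_iv (yM_lt hi)]
    exact ⟨a, ha, by rw [cd_iv (yM_lt hi)]⟩

theorem coset_aux : force (orLT 191 fun i => ite' (tb yM i) (force (iv i) go.fm) 0) (fun U =>
    allB 2048 fun a => not' (Nat.beq (Nat.land (xlF v8 a) U) 0)) = true := by decide +kernel

theorem coset_v8 {a : ℕ} (ha : a < 2048) : ∃ b < 2048, v8.testBit (a ^^^ b) = true ∧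
    ∃ x ∈ trY, x ≠ 1 ∧ go.act (cd x) b = b := by
  have h := (allB_iff _ _).1 ((force_eq _ _).symm.trans coset_aux) a ha
  rw [not'_eq_true, beq_iff] at h
  obtain ⟨b, hb⟩ := Nat.exists_testBit_of_ne_zero h
  rw [Nat.land_eq, Nat.testBit_and, Bool.and_eq_true, xlF_eq, testBit_xl ha, testBit_orLT] at hb
  obtain ⟨⟨h1, h2⟩, i, hi, h3⟩ := hb
  rw [ite'_eq, tb_eq, force_eq] at h3
  split_ifs at h3 with h4
  · rw [← cd_iv hi, go.testBit_fm] at h3
    exact ⟨b, h1, by rwa [Nat.xor_comm], _, mem_trY.2 (.inr ⟨i, h4, rfl⟩), iv_ne_one hi, h3.2⟩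
  · simp at h3

/-- The masks `czm` of the involutions. -/
noncomputable def czs' : ℕ := pk 2048 191 fun i => force (iv i) go.czm

/-- The images of the involutions. -/
noncomputable def ims : ℕ := pk 2048 191 fun i => force (iv i) go.imF

theorem testBit_czs {i : ℕ} (hi : i < 191) (a : ℕ) : (dig 2048 (onz 2048) czs' i).testBit a = true ↔
    a < 2048 ∧ go.cz (cd (mc (iv i))) a = true := by
  have e : ∀ i < 191, ∀ a, (force (iv i) go.czm).testBit a = true ↔
      a < 2048 ∧ go.cz (cd (mc (iv i))) a = true := fun i hi a => by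
    rw [force_eq, ← go.testBit_czm, cd_iv hi]
  rw [czs', dig_pk (fun k hk j hj => ((e k hk j).1 hj).1) hi, e i hi]

theorem testBit_ims {i : ℕ} (hi : i < 191) (v : ℕ) : (dig 2048 (onz 2048) ims i).testBit v = true ↔
    ∃ b < 2048, go.act (cd (mc (iv i))) b ^^^ b = v := by
  have e : ∀ i < 191, ∀ v, (force (iv i) go.imF).testBit v = true ↔
      ∃ b < 2048, go.act (cd (mc (iv i))) b ^^^ b = v := fun i hi a => by
    rw [force_eq, ← go.testBit_imF, cd_iv hi]
  rw [ims, dig_pk (fun k hk j hj => ?_) hi, e i hi]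
  obtain ⟨b, hb, rfl⟩ := (e k hk j).1 hj
  exact xor_lt (go.act_lt _ _) hb

/-- The relation of the clique check. -/
noncomputable def rel (Z I i : ℕ) : ℕ := orLT 191 fun j => ite' (and' (tb yM j)
  (and' (sub (dig 2048 (onz 2048) I i) (dig 2048 (onz 2048) Z j))
    (sub (dig 2048 (onz 2048) I j) (dig 2048 (onz 2048) Z i)))) (Nat.shiftLeft 1 j) 0

theorem clique_aux : force czs' (fun Z => force ims fun I => allF (fun i => or' (tb eM i)
    (fs (rel Z I i) fun R => allF (fun j => or' (Nat.beq i j)
      (fs (Nat.land R (rel Z I j)) (fewF 7))) 64 R)) 64 yM) = true := by decide +kernel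

theorem clique {Y : Subgroup M24} (hY : Y ≤ trY) (hc : 8 ≤ Nat.card Y)
    (h : ∀ x ∈ Y, ∀ x' ∈ Y, ∀ a < 2048, go.cz (cd x') (go.act (cd x) a ^^^ a) = true) :
    Y ≤ go.E := by
  intro τ hτ
  by_contra hE
  have R : ∀ i j, yM.testBit i = true → yM.testBit j = true → mc (iv i) ∈ Y → mc (iv j) ∈ Y →
      (rel czs' ims i).testBit j = true := fun i j hi hj a b => by
    have s : ∀ i j, yM.testBit i = true → yM.testBit j = true → mc (iv i) ∈ Y → mc (iv j) ∈ Y →
        sub (dig 2048 (onz 2048) ims i) (dig 2048 (onz 2048) czs' j) = true := fun i j hi hj a b =>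
      sub_iff.2 fun v hv => by
        obtain ⟨c, hc, rfl⟩ := (testBit_ims (yM_lt hi) v).1 hv
        exact (testBit_czs (yM_lt hj) _).2 ⟨xor_lt (go.act_lt _ _) hc, h _ a _ b c hc⟩
    rw [rel, testBit_orLT]
    refine ⟨j, yM_lt hj, ?_⟩
    rw [tb_eq, hj, s i j hi hj a b, s j i hj hi b a]
    change (1 <<< j).testBit j = true
    rw [Nat.one_shiftLeft, Nat.testBit_two_pow_self]
  obtain ⟨i, hi, rfl⟩ := (mem_trY.1 (hY hτ)).resolve_left fun e => hE (e ▸ one_mem _)
  have h0 := clique_aux
  rw [force_eq, force_eq] at h0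
  have h1 := of_allF h0 hi
  rw [or'_eq_true, tb_eq, fs_eq] at h1
  replace h1 := h1.resolve_left fun e => hE (mem_of_eM (yM_lt hi) e)
  have h2 : ∃ j, yM.testBit j = true ∧ mc (iv j) ∈ Y ∧ i ≠ j := by
    by_contra e
    push Not at e
    have := card_le_bs (X := Y) (m := 2 ^ i) fun x hx h1 => by
      obtain ⟨j, hj, rfl⟩ := (mem_trY.1 (hY hx)).resolve_left h1
      exact ⟨i, Nat.testBit_two_pow_self, by rw [e j hj hx]⟩
    have e2 : bs (2 ^ i) = {i} := by
      ext j; simp [mem_bs, Nat.testBit_two_pow, eq_comm]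
    rw [e2, Finset.card_singleton] at this
    omega
  obtain ⟨j, hj, h3, h4⟩ := h2
  have h5 := of_allF h1 (R i j hi hj hτ h3)
  rw [or'_eq_true, beq_iff, fs_eq] at h5
  have h6 := of_fewF (h5.resolve_left h4)
  have := card_le_bs (X := Y) (m := Nat.land (rel czs' ims i) (rel czs' ims j)) fun x hx h1 => by
    obtain ⟨k, hk, rfl⟩ := (mem_trY.1 (hY hx)).resolve_left h1
    exact ⟨k, by rw [Nat.land_eq, Nat.testBit_and, R i k hi hk hτ hx, R j k hj hk h3 hx]; rfl, rfl⟩
  omega

theorem fix_two_aux : force czs' (fun Z => allB 1024 fun b => force (eT b) fun c =>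
    fs (go.fm c) fun M => or' (Nat.beq c oneC) (allB 191 fun i =>
      or' (not' (sub (dig 2048 (onz 2048) Z i) M)) (Nat.beq c (iv i)))) = true := by
  decide +kernel

theorem fix_two {τ g : M24} (hτ : τ ∈ Th) (h2 : τ * τ = 1) (h1 : τ ≠ 1) (hg : g ∈ Th)
    (h : ∀ a < 2048, go.cz (cd τ) a = true → go.act (cd g) a = a) : g = 1 ∨ g = τ := by
  obtain ⟨i, hi, rfl⟩ := exists_iv hτ h1 h2
  obtain ⟨b, hb, e⟩ := exists_eT hg
  have h3 := (allB_iff _ _).1 ((force_eq _ _).symm.trans fix_two_aux) b hb
  simp only [force_eq, fs_eq, or'_eq_true, beq_iff, allB_iff, not'_eq_true, sub_iff, e] at h3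
  refine h3.imp (fun h => cd_inj (h.trans cd_one.symm)) fun h3 => cd_inj ?_
  rw [cd_iv hi]
  exact (h3 i hi).resolve_left (not_not.2 fun a ha => (go.testBit_fm g a).2
    ⟨((testBit_czs hi a).1 ha).1, h a ((testBit_czs hi a).1 ha).1 ((testBit_czs hi a).1 ha).2⟩)

end Cfsg.Agent.R24
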