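import Cfsg.Agent.R24.CoF1

/-!
# S3318: the table for the strong closure of `Q` in the cocode case
Subgroups between `E` and `Th` and subspaces above `W` are described by masks of sixteen bits.
-/

set_option autoImplicit false

namespace Cfsg.Agent.R24

open Cfsg Cfsg.Agent.Comp Cfsg.Agent.Spor Cfsg.Agent.Spor.M24C Subgroup
open scoped Pointwise commutatorElement

namespace CF6

def tCl : ℕ := 0xdcfedcfe98ba98ba98ba98badcfedcfedcfedcfe98ba98ba98ba98badcfedcfefedcfedcba98ba98ba98ba98fedcfedcfedcfedcba98ba98ba98ba98fedcfedc98ba98badcfedcfedcfedcfe98ba98ba98ba98badcfedcfedcfedcfe98ba98baba98ba98fedcfedcfedcfedcba98ba98ba98ba98fedcfedcfedcfedcba98ba98fedcfedcba98ba98ba98ba98fedcfedcfedcfedcba98ba98ba98ba98fedcfedcdcfedcfe98ba98ba98ba98badcfedcfedcfedcfe98ba98ba98ba98badcfedcfeba98ba98fedcfedcfedcfedcba98ba98ba98ba98fedcfedcfedcfedcba98ba9898ba98badcfedcfedcfedcfe98ba98ba98ba98badcfedcfedcfedcfe98ba98bafedcfedcba98ba98ba98ba98fedcfedcfedcfedcba98ba98ba98ba98fedcfedcdcfedcfe98ba98ba98ba98badcfedcfedcfedcfe98ba98ba98ba98badcfedcfeba98ba98fedcfedcfedcfedcba98ba98ba98ba98fedcfedcfedcfedcba98ba9898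ba98badcfedcfedcfedcfe98ba98ba98ba98badcfedcfedcfedcfe98ba98badcfedcfe98ba98ba98ba98badcfedcfedcfedcfe98ba98ba98ba98badcfedcfefedcfedcba98ba98ba98ba98fedcfedcfedcfedcba98ba98ba98ba98fedcfedc98ba98badcfedcfedcfedcfe98ba98ba98ba98badcfedcfedcfedcfe98ba98baba98ba98fedcfedcfedcfedcba98ba98ba98ba98fedcfedcfedcfedcba98ba985476547610321032103210325476547654765476103210321032103254765476765476543210321032103210765476547654765432103210321032107654765410321032547654765476547610321032103210325476547654765476103210323210321076547654765476543210321032103210765476547654765432103210765476543210321032103210765476547654765432103210321032107654765454765476103210321032103254765476547654761032103210321032547654763210321076547654765476543210321032103210765476547654765432103210103210325476547654765476103210321032103254765476547654761032103276547654321032103210321076547654765476543210321032103210765476545476547610321032103210325476547654765476103210321032103254765476321032107654765476547654321032103210321076547654765476543210321010321032547654765476547610321032103210325476547654765476103210325476547610321032103210325476547654765476103210321032103254765476765476543210321032103210765476547654765432103210321032107654765410321032547654765476547610321032103210325476547654765476103210323210321076547654765476543210321032103210765476547654765432103210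

def tM : ℕ := 0x1681a3709c561187799e81245a16c4c0341e07c006458260d946558661d990601b1e87d1b06f038025cd7058567619856118b3a8f92209e1bc7c07403509514813665d84795fa2ecb82a4af0380d03005390f7398f00041204c0d3b0ff3b8f80241a06c04314c62dcb1000031886c2f4be33cc91a06b0280611c540d4221cc600041e17c4c0b43a1ac780640719865190631c8711c07f0380d0300b0280902009761db6e9bd7b1ef639801045214c440141605c087a5fa7edec7f5ee7bdf1040131c875190670180a42d084651f7b9ed7b1e3388f12009619c740540b4e9295614e7fdec635922ccb0284a7018050100d2309f238981e46a1ac75390f7398f00041204c0c2b4ae37cd91e07b068142d4b631cc1180630080e0bc3c1744a02c181e46615c440943218c700440f0380d0300b02809020070180501003008010000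

def tA : ℕ := 0xc300000000000000010000000000002001000000000000000100000000000000000000000000000000000000000000000000000000000000000000000000002001000000000000000900000000000000c3000000000000000900000000000000000000000000000000000000000000000000000000000000000000000000000000000000050000000000000a050000000000000001000000000000c3c30000000000000000000000000000000000000000000000000000000000000000000000000000000500000000000000ff0000000000000001000000000000090900000000000000000000000000000000000000010000000000003cc30000000000000000000000000000000000000000000000000000000000000000000000000000000500000000000005050000000000000001000000000000060900000000000000000000000000000000000000000000000000000000000000000000000000000005000000000000ffff0000000000000000000010010000000000000001000000000000000000000000000000000000000000000000000000000000000000000000000000c3000000000000000100000000000000c30000000000000009000000000000000000000000000000000000000000000000000000000000000000000000000010010000000000000009000000000000000000000000000000000000000000000001000000000000c3c300000000000000050000000000000a050000000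00000000000000000000000000000000000000000000000000000000000000000000000010000000000000909000000000000000500000000000000ff000000000000000000000000000000000000000000000000000000000000000000002001000000000000000100000000000000c30000000000000001000000000000000000000000000000000000000000000000000000000000000000000000000000c3000000000000000900000000000020010000000000000009000000000000000000000000000000000000000000000000000000c3000000000000000100000000000000000000000000000000000000000000000000000000000000000000000000001001000000000000000100000000000010010000000000000009000000000000000000000000000000000000000000000000000000000000000000000000000000c30000000000000009000000050000000000000505000000000000000000000000000000000000000000000000000000000000000000000000000000010000000000003cc30000000000000005000000000000ffff00000000000000000000000000000000000000000000000000000000000000000000000000000001000000000000060900000000000000000000000000000000000000000000000000002001000000000000000100000000000000c30000000000000001000000000000000000000000000000000000000000000000000000000000000000000000000000c30000000000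00000900000000000020010000000000000009000000000000000000000000000000000000000000000000000000000000000000000001000000000000c3c300000000000000050000000000000a05000000000000000000000000000000000000000000000000000000000000000000000000000000010000000000000909000000000000000500000000000000ff000000000000000000000000000000000000000000000000000000050000000000000505000000000000000000000000000000000000000000000000000000000000000000000000000000010000000000003cc30000000000000005000000000000ffff000000000000000000000000000000000000000000000000000000000000000000000000000000010000000000000609000000c3000000000000000100000000000000000000000000000000000000000000000000000000000000000000000000001001000000000000000100000000000010010000000000000009000000000000000000000000000000000000000000000000000000000000000000000000000000c300000000000000090000000000000000000000000000000000000000000000050000000000000a050000000000000001000000000000c3c30000000000000000000000000000000000000000000000000000000000000000000000000000000500000000000000ff0000000000000001000000000000090900000000000000000000000000000000000000000000000000000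000000000000000000000000000000000c300000000000000010000000000002001000000000000000100000000000000000000000000000000000000000000000000000000000000000000000000002001000000000000000900000000000000c3000000000000000900000000000000000000000000000000000010010000000000000001000000000000000000000000000000000000000000000000000000000000000000000000000000c3000000000000000100000000000000c300000000000000090000000000000000000000000000000000000000000000000000000000000000000000000000100100000000000000090000000000000000000000010000000000003cc30000000000000000000000000000000000000000000000000000000000000000000000000000000500000000000005050000000000000001000000000000060900000000000000000000000000000000000000000000000000000000000000000000000000000005000000000000ffff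

def tB : ℕ := 0x810081000100010081008100010001000100010041004100010001004100410001000100810081000100010081008100010001004100410001000100410041000f000f000f000f000f000f000f000f28812881244124411481148118411841020102010101010101010101020102010f0f0f0f00ff00fff00ff00fffffffff

def tC : ℕ := 0x100100012001800100010005008108010801800100010401200100810001001100090003000110010021020100010005020100090001001100210003040100010001010100010041004100010001010100010001040100111001000500010001080120010201000300818001000900210041010140014001000100014001ffff

def tF : ℕ := 0x4001400144115005414155556969c3c35005441140014001414141414141ffff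

def LU : List ℕ := [1, 3, 5, 9, 15, 17, 33, 51, 65, 85, 105, 129, 153, 165, 195, 255, 257, 513, 771, 1025, 1285, 1545, 2049, 2313, 2565, 3075, 3855, 4097, 4369, 4641, 5185, 6273, 8193, 8481, 8721, 9345, 10305, 12291, 13107, 15555, 16385, 16705, 17025, 17425, 18465, 20485, 21845, 23205, 24585, 26265, 26985, 32769, 33153, 33345, 33825, 34833, 36873, 38505, 39321, 40965, 42405, 43605, 49155, 50115, 52275, 61455, 65535]

noncomputable def rp (j : ℕ) : ℕ :=
  Nat.lor (Nat.land j 3) (Nat.lor (Nat.shiftLeft (Nat.land j 4) 1) (Nat.shiftLeft (Nat.land j 8) 7))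

noncomputable def cl (a : ℕ) : ℕ := dig 4 15 tCl a

noncomputable def pm (i j : ℕ) : ℕ := dig 10 1023 tM (Nat.add (Nat.mul 16 i) j)

noncomputable def d16 (t i : ℕ) : ℕ := dig 16 65535 t i

noncomputable def sub (m t : ℕ) : Bool := Nat.beq (Nat.land m t) m

noncomputable def xc (i : ℕ) : ℕ := eT (Nat.mul 64 i)

noncomputable def clU (m : ℕ) : Bool := and' (tb m 0) (allLT 16 fun i => or' (not' (tb m i))
  (allLT 16 fun j => or' (not' (tb m j)) (tb m (Nat.xor i j))))

noncomputable def clX (m : ℕ) : Bool := and' (tb m 0) (allLT 16 fun i => or' (not' (tb m i))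
  (and' (Nat.blt (pm i i) 64)
    (allLT 16 fun j => or' (not' (tb m j)) (tb m (Nat.shiftRight (pm i j) 6)))))

theorem k1 : allB 1024 (fun b => Nat.beq (eT b) (force (xc (Nat.shiftRight b 6)) fun c =>
    force (eT (Nat.land b 63)) (mulC c))) = true := by decide +kernel

theorem k2 : allLT 16 (fun i => force (xc i) fun c => allLT 16 fun j => force (pm i j) fun b =>
    and' (Nat.blt b 1024) (Nat.beq (eT b) (force (xc j) (mulC c)))) = true := by decide +kernel

theorem k3 : allB 2048 (fun a => force (cl a) fun j =>
    and' (Nat.blt j 16) (tb cWm (Nat.xor a (rp j)))) = true := by decide +kernel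

theorem k4 : allLT 16 (fun i => and' (Nat.blt (rp i) 2048)
    (allLT 16 fun j => Nat.beq (rp (Nat.xor i j)) (Nat.xor (rp i) (rp j)))) = true := by
  decide +kernel

theorem kA : allLT 16 (fun i => force (xc i) fun c => allB 2048 fun w => or' (not' (tb cWm w))
    (or' (tb (d16 tA w) i) (not' (co.cz c w)))) = true := by decide +kernel

theorem kB : allLT 16 (fun i => force (xc i) fun c => allLT 64 fun h => force (eT h) fun e =>
    or' (tb (d16 tB h) i) (not' (Nat.beq (mulC e c) (mulC c e)))) = true := by decide +kernel

theorem kC : allLT 64 (fun h => force (eT h) fun e => allLT 16 fun j =>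
    or' (tb (d16 tC h) j) (not' (force (rp j) (co.cz e)))) = true := by decide +kernel

theorem kF : allLT 16 (fun i => force (xc i) fun c => allLT 16 fun j => or' (tb (d16 tF i) j)
    (not' (force (rp j) fun r => tb cWm (Nat.xor (co.act c r) r)))) = true := by decide +kernel

theorem kU : allBB 65536 (fun m => or' (not' (clU m)) (anyL LU (Nat.beq m))) = true := by
  decide +kernel

theorem kU2 : allL LU (fun m => Nat.beq (cntPow 11 fun a => tb m (cl a))
    (Nat.mul 128 (pop 16 m))) = true := by decide +kernel

theorem kX : allBB 65536 (fun mX => or' (not' (clX mX)) (force (pop 16 mX) fun a =>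
    and' (Nat.beq (cntPow 10 fun b => tb mX (Nat.shiftRight b 6)) (Nat.mul 64 a))
    (force (cntPow 11 fun w => sub mX (d16 tA w)) fun cw => allL LU fun mU =>
      force (Nat.mul a (pop 16 mU)) fun α => or' (Nat.beq α 1)
        (or' (anyLT 16 fun i => and' (tb mX i) (not' (sub mU (d16 tF i))))
          (force (cntLT 64 fun h => and' (sub mX (d16 tB h)) (sub mU (d16 tC h))) fun ch =>
            and' (or' (Nat.blt cw 32) (Nat.ble (Nat.mul α ch) 32))
              (or' (Nat.ble (Nat.mul (Nat.mul (Nat.mul α α) 16) ch) 4096)
                (Nat.ble (Nat.mul (Nat.mul (Nat.mul α α) cw) ch) 4096))))))) = true := by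
  decide +kernel

theorem exists_mask (P : ℕ → Prop) : ∃ m < 65536, ∀ i < 16, tb m i = true ↔ P i := by
  classical
  refine ⟨Nat.ofBits fun i : Fin 16 => decide (P i), Nat.ofBits_lt_two_pow _, fun i hi => ?_⟩
  rw [tb_eq, Nat.testBit_ofBits_lt _ _ hi, decide_eq_true_iff]

theorem sub_of {m t : ℕ} (hm : m < 65536) (h : ∀ i < 16, tb m i = true → tb t i = true) :
    sub m t = true := by
  rw [sub, beq_iff]
  refine Nat.eq_of_testBit_eq fun i => ?_
  change (m &&& t).testBit i = _
  rw [Nat.testBit_and]
  by_cases hi : i < 16
  · have := h i hi
    rw [tb_eq, tb_eq] at this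
    cases h1 : m.testBit i
    · rfl
    · rw [this h1]; rfl
  · rw [Nat.testBit_lt_two_pow (lt_of_lt_of_le hm
      (Nat.pow_le_pow_right (n := 2) (i := 16) (by norm_num) (by omega)))]; rfl

theorem cd_xc {i : ℕ} (hi : i < 16) : cd (mc (xc i)) = xc i :=
  okM_of_inH (inH_eT (show 64 * i < 1024 by omega))

theorem mem_E {h : ℕ} (hh : h < 64) : mc (eT h) ∈ co.E :=
  mem_coE.2 ⟨h, hh, (okM_of_inH (inH_eT (by omega))).symm⟩

theorem lt_of_mem_E {b : ℕ} (hb : b < 1024) (h : mc (eT b) ∈ co.E) : b < 64 := by
  obtain ⟨c, hc, e⟩ := mem_coE.1 h
  rw [okM_of_inH (inH_eT hb)] at e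
  exact eT_inj (a := c) (by omega) hb e ▸ hc

theorem shr_lt {b : ℕ} (hb : b < 1024) : Nat.shiftRight b 6 < 16 := by
  change b >>> 6 < 16
  rw [Nat.shiftRight_eq_div_pow]; omega

theorem mem_iff {X : Subgroup M24} (hE : co.E ≤ X) {b : ℕ} (hb : b < 1024) :
    mc (eT b) ∈ X ↔ mc (xc (Nat.shiftRight b 6)) ∈ X := by
  have h1 := (allB_iff _ _).1 k1 b hb
  simp only [force_eq, beq_iff] at h1
  have h2 : Nat.land b 63 < 64 := lt_of_le_of_lt Nat.and_le_right (by norm_num)
  have h3 : mc (eT b) = mc (xc (Nat.shiftRight b 6)) * mc (eT (Nat.land b 63)) := cd_inj (by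
    rw [cd_mul, cd_xc (shr_lt hb), okM_of_inH (inH_eT hb), okM_of_inH (inH_eT (by omega)), ← h1])
  rw [h3, X.mul_mem_cancel_right (hE (mem_E h2))]

theorem pm_spec {i j : ℕ} (hi : i < 16) (hj : j < 16) :
    pm i j < 1024 ∧ mc (eT (pm i j)) = mc (xc i) * mc (xc j) := by
  have h1 := k2
  simp only [allLT_iff, force_eq, and'_eq_true, blt_iff, beq_iff] at h1
  refine ⟨(h1 i hi j hj).1, cd_inj ?_⟩
  rw [cd_mul, cd_xc hi, cd_xc hj, okM_of_inH (inH_eT (h1 i hi j hj).1), (h1 i hi j hj).2]

theorem rp_lt {i : ℕ} (hi : i < 16) : rp i < 2048 := by
  have h1 := k4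
  simp only [allLT_iff, and'_eq_true, blt_iff] at h1
  exact (h1 i hi).1

end CF6

open CF6 in
theorem cf6 {X Y : Subgroup M24} (hX : X ≤ Th) (hE : co.E ≤ X) (h2 : ∀ x ∈ X, x * x ∈ co.E)
    (U N : Finset ℕ) (hU : ∀ a ∈ U, a < 2048) (hWU : ∀ a < 2048, co.inW a → a ∈ U)
    (hx : ∀ a ∈ U, ∀ b ∈ U, a ^^^ b ∈ U)
    (hXU : ∀ x ∈ X, ∀ a ∈ U, co.inW (co.act (cd x) a ^^^ a)) (hY : Y ≤ co.E)
    (hYX : ∀ h ∈ Y, ∀ x ∈ X, h * x = x * h) (hYU : ∀ h ∈ Y, ∀ a ∈ U, co.cz (cd h) a = true)
    (hN : ∀ w ∈ N, w < 2048 ∧ co.inW w ∧ ∀ x ∈ X, co.cz (cd x) w = true) {α : ℕ}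
    (hα : Nat.card X * U.card = α * 8192) (h1 : α ≠ 1) :
    (32 ≤ N.card → α * Nat.card Y ≤ 32) ∧
      (N.card ≤ 16 → α * α * N.card * Nat.card Y ≤ 4096) := by
  classical
  obtain ⟨mX, hX1, hX2⟩ := exists_mask fun i => mc (xc i) ∈ X
  obtain ⟨mU, hU1, hU2⟩ := exists_mask fun j => rp j ∈ U
  have hW : ∀ {a}, a < 2048 → (tb cWm a = true ↔ co.inW a) := fun ha => by
    rw [tb_eq, inW_co ha]
  have c1 : clX mX = true := by
    simp only [clX, and'_eq_true, or'_eq_true, not'_eq_true, allLT_iff, blt_iff]
    refine ⟨(hX2 0 (by norm_num)).2 (hE (mem_E (h := 0) (by norm_num))), fun i hi => ?_⟩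
    refine (em _).symm.imp_right fun h => ⟨?_, fun j hj => (em _).symm.imp_right fun h' => ?_⟩
    · refine lt_of_mem_E (pm_spec hi hi).1 ?_
      rw [(pm_spec hi hi).2]
      exact h2 _ ((hX2 i hi).1 h)
    · rw [hX2 _ (shr_lt (pm_spec hi hj).1), ← mem_iff hE (pm_spec hi hj).1, (pm_spec hi hj).2]
      exact mul_mem ((hX2 i hi).1 h) ((hX2 j hj).1 h')
  have c2 : mU ∈ LU := by
    have h3 := (allBB_iff _ _).1 kU mU hU1
    simp only [or'_eq_true, not'_eq_true, anyL_iff, beq_iff] at h3
    obtain ⟨_, h4, rfl⟩ := h3.resolve_left (not_not.2 (by
      simp only [clU, and'_eq_true, or'_eq_true, not'_eq_true, allLT_iff]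
      refine ⟨(hU2 0 (by norm_num)).2 (hWU 0 (by norm_num) ((hW (by norm_num)).1
        (by decide +kernel))), fun i hi => ?_⟩
      refine (em _).symm.imp_right fun h j hj => (em _).symm.imp_right fun h' => ?_
      have h4 := k4
      simp only [allLT_iff, and'_eq_true, beq_iff] at h4
      rw [hU2 (Nat.xor i j) (Nat.xor_lt_two_pow (n := 4) hi hj), (h4 i hi).2 j hj]
      exact hx _ ((hU2 i hi).1 h) _ ((hU2 j hj).1 h')))
    exact h4
  have c3 : U.card = 128 * pop 16 mU := by
    have h3 := (allL_iff _ _).1 kU2 mU c2
    rw [beq_iff, cntPow_eq] at h3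
    refine Eq.trans (congrArg _ (Finset.ext fun a => ?_)) h3
    rw [Finset.mem_filter, Finset.mem_range]
    have h4 : a < 2048 → (tb mU (cl a) = true ↔ a ∈ U) := fun ha => by
      have h5 := (allB_iff _ _).1 k3 a ha
      simp only [force_eq, and'_eq_true, blt_iff] at h5
      have h6 : a ^^^ rp (cl a) < 2048 := xor_lt ha (rp_lt h5.1)
      have h7 := hWU _ h6 ((hW h6).1 h5.2)
      rw [hU2 _ h5.1]
      refine ⟨fun h => ?_, fun h => ?_⟩
      · simpa [Nat.xor_assoc] using hx _ h7 _ h
      · simpa [← Nat.xor_assoc] using hx _ h _ h7
    exact ⟨fun h => ⟨hU a h, (h4 (hU a h)).2 h⟩, fun h => (h4 h.1).1 h.2⟩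
  have h3 := (allBB_iff _ _).1 kX mX hX1
  simp only [or'_eq_true, not'_eq_true, and'_eq_true, force_eq, allL_iff, anyLT_iff, beq_iff,
    blt_iff, ble_iff, c1, not_true, false_or] at h3
  obtain ⟨h4, h5⟩ := h3
  have c4 : Nat.card X = 64 * pop 16 mX := by
    rw [cntPow_eq] at h4
    rw [card_of_eT hX (fun b => tb mX (Nat.shiftRight b 6) = true) fun b hb => by
      rw [mem_iff hE hb, hX2 _ (shr_lt hb)]]
    exact h4
  have c5 : Nat.mul (pop 16 mX) (pop 16 mU) = α := by
    rw [c3, c4] at hα
    change pop 16 mX * pop 16 mU = α
    nlinarith
  have h6 := h5 mU c2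
  rw [c5] at h6
  have h7 := (h6.resolve_left h1).resolve_left (by
    rintro ⟨i, hi, h8, h9⟩
    refine h9 (sub_of hU1 fun j hj h => ?_)
    have h10 := kF
    simp only [allLT_iff, force_eq, or'_eq_true, not'_eq_true] at h10
    refine (h10 i hi j hj).resolve_right (not_not.2 ?_)
    have h11 := hXU _ ((hX2 i hi).1 h8) _ ((hU2 j hj).1 h)
    rw [cd_xc hi] at h11
    exact (hW (xor_lt (co.act_lt _ _) (rp_lt hj))).2 h11)
  have c6 : N.card ≤ cntPow 11 fun w => sub mX (d16 tA w) := by
    rw [cntPow_eq]
    refine Finset.card_le_card fun w hw => Finset.mem_filter.2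
      ⟨Finset.mem_range.2 (hN w hw).1, sub_of hX1 fun i hi h => ?_⟩
    have h10 := kA
    simp only [allLT_iff, allB_iff, force_eq, or'_eq_true, not'_eq_true] at h10
    refine ((h10 i hi w (hN w hw).1).resolve_left (not_not.2 ((hW (hN w hw).1).2
      (hN w hw).2.1))).resolve_right (not_not.2 ?_)
    rw [← cd_xc hi]
    exact (hN w hw).2.2 _ ((hX2 i hi).1 h)
  have c7 : Nat.card Y ≤ cntLT 64 fun h => and' (sub mX (d16 tB h)) (sub mU (d16 tC h)) := by
    rw [cntLT_eq, card_of_eT (hY.trans coE_le_Th) (fun b => mc (eT b) ∈ Y) fun _ _ => Iff.rfl]
    refine Finset.card_le_card fun b hb => ?_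
    rw [Finset.mem_filter, Finset.mem_range] at hb
    have h8 := lt_of_mem_E hb.1 (hY hb.2)
    have h9 := okM_of_inH (inH_eT hb.1)
    refine Finset.mem_filter.2 ⟨Finset.mem_range.2 h8, (and'_eq_true _ _).2
      ⟨sub_of hX1 fun i hi h => ?_, sub_of hU1 fun j hj h => ?_⟩⟩
    · have h10 := kB
      simp only [allLT_iff, force_eq, or'_eq_true, not'_eq_true, beq_iff] at h10
      refine (h10 i hi b h8).resolve_right (not_not.2 ?_)
      have h11 := congrArg cd (hYX _ hb.2 _ ((hX2 i hi).1 h))
      rwa [cd_mul, cd_mul, h9, cd_xc hi] at h11
    · have h10 := kC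
      simp only [allLT_iff, force_eq, or'_eq_true, not'_eq_true] at h10
      refine (h10 b h8 j hj).resolve_right (not_not.2 ?_)
      rw [← h9]
      exact hYU _ hb.2 _ ((hU2 j hj).1 h)
  generalize (cntPow 11 fun w => sub mX (d16 tA w)) = cw at h7 c6
  generalize (cntLT 64 fun h => and' (sub mX (d16 tB h)) (sub mU (d16 tC h))) = ch at h7 c7
  simp only [Nat.mul_eq] at h7
  refine ⟨fun h => (Nat.mul_le_mul_left α c7).trans (h7.1.resolve_left (by omega)), fun h => ?_⟩
  rcases h7.2 with h8 | h8
  · exact (Nat.mul_le_mul (Nat.mul_le_mul_left _ h) c7).trans h8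
  · exact (Nat.mul_le_mul (Nat.mul_le_mul_left _ c6) c7).trans h8

end Cfsg.Agent.R24
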