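import Cfsg.Agent.R24.TabB
import Cfsg.Agent.S1551

/-!
# S3318: the finite facts about `M24` on the even cocode
-/

set_option autoImplicit false
set_option linter.unusedSimpArgs false

namespace Cfsg.Agent.R24

open Cfsg Cfsg.Agent.Comp Cfsg.Agent.Spor Cfsg.Agent.Spor.M24C Subgroup
open scoped Pointwise commutatorElement

namespace TabC

/-- The kernel on the tetrads. -/
noncomputable def Kt : Subgroup M24 := ⨅ t ∈ famOf 6 sx0, MulAction.stabilizer M24 t

theorem mem_Kt {g : M24} : g ∈ Kt ↔ ∀ t ∈ famOf 6 sx0, g • t = t := by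
  simp only [Kt, mem_iInf, MulAction.mem_stabilizer_iff]

theorem card_Kt : Nat.card Kt = 192 := by
  rw [← S1551.card_K, ← Nat.card_coe_set_eq]
  exact Nat.card_congr (Equiv.subtypeEquivRight fun _ => mem_Kt)

theorem mc_mem_Kt {c : ℕ} (h : and' (okM c) (allL [15, 5264, 622848, 3416064, 4196928, 8536096]
    fun m => Nat.beq (imgC c m) m) = true) : mc c ∈ Kt := by
  simp only [and'_eq_true, allL_iff, beq_iff] at h
  rw [mem_Kt, S1551.fix_iff]
  intro m hm
  rw [mc_smul_setOf' h.1, h.2 m hm]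

theorem conj_Kt : ∀ g ∈ co.S0, ∀ x ∈ Kt, g * x * g⁻¹ ∈ Kt := fun g hg x hx =>
  mem_Kt.2 fun t ht => by
    rw [mul_smul, mul_smul, mem_Kt.1 hx _ ((smul_mem_iff_of_stab (inv_mem hg) t).2 ht),
      smul_inv_smul]

theorem mem_E {g : M24} : g ∈ co.E ↔ g ∈ Kt ∧ g * g = 1 := by
  have h : co.E ≤ gen S1551.gl := gen_le fun c hc => by
    have h1 : ∀ c ∈ h6, and' (okM c) (allL [15, 5264, 622848, 3416064, 4196928, 8536096]
      fun m => Nat.beq (imgC c m) m) = true ∧ mulC c c = oneC := by decide +kernel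
    have h2 := (allL_iff _ _).1 ok_h6 c hc
    exact inH_of_okM h2 ((S1551.mem_gen_iff _).2 ⟨mem_Kt.1 (mc_mem_Kt (h1 c hc).1),
      cd_inj (by rw [cd_mul, cd_mc h2, (h1 c hc).2, cd_one])⟩)
  rw [eq_of_le_of_card_ge h (by rw [S1551.card_gen, card_E_co]), S1551.mem_gen_iff, mem_Kt]

theorem conjE : ∀ g ∈ co.S0, ∀ x ∈ co.E, g * x * g⁻¹ ∈ co.E := fun g hg x hx =>
  mem_E.2 ⟨conj_Kt g hg x (mem_E.1 hx).1, by rw [conj_mul, (mem_E.1 hx).2]; simp⟩

theorem inH_S0 {c : ℕ} (h : and' (okM c) (Nat.beq (co.act c 834) 834) = true) :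
    InH co.S0 c := by
  rw [and'_eq_true, beq_iff] at h
  exact inH_of_okM h.1 ((co.mem_S0' _).2 (by rw [cd_mc h.1]; exact h.2))

theorem y_mem : mc yC ∈ co.S0 := (inH_S0 (by decide +kernel)).mc_mem

theorem y_pow : mc yC ^ 3 = 1 := cd_inj (by
  rw [pow_succ, pow_two, cd_mul, cd_mul, cd_mc ok_yC, cd_one]; decide +kernel)

theorem y_ne : mc yC ≠ 1 := fun h => by
  have := congrArg cd h
  rw [cd_mc ok_yC, cd_one] at this
  exact absurd this (by decide +kernel)

theorem Ey_le : co.E ⊔ zpowers (mc yC) ≤ Kt :=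
  sup_le (fun _ h => (mem_E.1 h).1) (zpowers_le.2 (mc_mem_Kt (by decide +kernel)))

theorem card_Ey : Nat.card (co.E ⊔ zpowers (mc yC) : Subgroup M24) = 192 := by
  have h1 := card_dvd_of_le Ey_le
  have h2 := card_dvd_of_le (le_sup_left : co.E ≤ co.E ⊔ zpowers (mc yC))
  have h3 := card_dvd_of_le (le_sup_right : zpowers (mc yC) ≤ co.E ⊔ zpowers (mc yC))
  have : Fact (Nat.Prime 3) := ⟨by norm_num⟩
  rw [Nat.card_zpowers, orderOf_eq_prime y_pow y_ne] at h3
  rw [card_Kt] at h1
  rw [card_E_co] at h2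
  exact Nat.dvd_antisymm h1 (Nat.Coprime.mul_dvd_of_dvd_of_dvd (by norm_num) h2 h3)

theorem Ey_eq : co.E ⊔ zpowers (mc yC) = Kt :=
  eq_of_le_of_card_ge Ey_le (by rw [card_Kt, card_Ey])

theorem y_conj : ∀ g ∈ co.S0, g * mc yC * g⁻¹ * (mc yC)⁻¹ ∈ co.E ∨
    g * mc yC * g⁻¹ * mc yC ∈ co.E := fun g hg => by
  refine (co.tri conjE y_mem y_pow (Ey_eq ▸ conj_Kt g hg _
    (Ey_le (mem_sup_right (mem_zpowers _))))).resolve_left fun h => y_ne ?_
  have := eq_one_of_two (isPGroup_Th.to_le coE_le_Th) h (by rw [conj_pow, y_pow]; simp)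
  simpa using this

end TabC

open TabC

/-- `S1` is a subgroup of index 2 of `S0`. -/
def coS1 : Subgroup M24 where
  carrier := co.S1 (mc yC)
  one_mem' := ⟨one_mem _, by simp⟩
  mul_mem' := fun {g h} hg hh => ⟨mul_mem hg.1 hh.1, by
    have := mul_mem (conjE g hg.1 _ hh.2) hg.2
    convert this using 1; group⟩
  inv_mem' := fun {g} hg => ⟨inv_mem hg.1, by
    have := conjE _ (inv_mem hg.1) _ (inv_mem hg.2)
    convert this using 1; group⟩

theorem mem_coS1 {g : M24} :
    g ∈ coS1 ↔ g ∈ co.S0 ∧ g * mc yC * g⁻¹ * (mc yC)⁻¹ ∈ co.E := Iff.rfl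

namespace TabC

/-- The test for `S1`. -/
noncomputable def tS1 (c : ℕ) : Bool :=
  force (force (conjC c yC) fun x => force (invC yC) (mulC x)) fun x =>
    anyLT 64 fun e => Nat.beq (eT e) x

theorem tS1_iff {g : M24} (hg : g ∈ co.S0) : g ∈ coS1 ↔ tS1 (cd g) = true := by
  simp only [mem_coS1, hg, true_and, mem_coE, tS1, force_eq, anyLT_iff, beq_iff, cd_mul _ (mc yC)⁻¹,
    cd_conj, cd_inv, cd_mc ok_yC]

theorem inH_S1 {c : ℕ} (h : and' (and' (okM c) (Nat.beq (co.act c 834) 834)) (tS1 c) = true) :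
    InH coS1 c := by
  rw [and'_eq_true] at h
  obtain ⟨g, hg, rfl⟩ := inH_S0 h.1
  exact ⟨g, (tS1_iff hg).2 h.2, rfl⟩

theorem tS1_aux : allB 1024 (fun b => force (eT b) fun c =>
    ite' (Nat.blt b 512) (tS1 c) (not' (tS1 c))) = true := by decide +kernel

theorem eT_mem {b : ℕ} (hb : b < 1024) : mc (eT b) ∈ coS1 ↔ b < 512 := by
  have h := (allB_iff _ _).1 tS1_aux b hb
  rw [force_eq, ite'_eq] at h
  rw [tS1_iff (Th_le_co (inH_eT hb).mc_mem), okM_of_inH (inH_eT hb)]
  split_ifs at h with h1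
  · exact iff_of_true h ((blt_iff _ _).1 h1)
  · exact iff_of_false ((not'_eq_true _).1 h) fun h2 => h1 ((blt_iff _ _).2 h2)

theorem S1_le : coS1 ≤ co.S0 := fun _ h => h.1

theorem index_S1 : (coS1.subgroupOf co.S0).index = 2 := by
  have h1 : mc (eT 512) ∈ co.S0 := Th_le_co (inH_eT (by norm_num)).mc_mem
  have h2 : mc (eT 512) ∉ coS1 := by rw [eT_mem (by norm_num)]; norm_num
  refine relIndex_eq_two_iff_exists_notMem_and.2 ⟨_, h1, h2, fun b hb => ?_⟩
  have h3 := (y_conj _ h1).resolve_left fun h => h2 ⟨h1, h⟩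
  rcases y_conj b hb with h | h
  · exact Or.inr ⟨hb, h⟩
  · refine Or.inl ⟨mul_mem hb h1, ?_⟩
    have := mul_mem (conjE b hb _ h3) (conjE _ y_mem _ (inv_mem h))
    convert this using 1; group

theorem conj_S1 : ∀ g ∈ co.S0, ∀ x ∈ coS1, g * x * g⁻¹ ∈ coS1 := fun g hg x hx =>
  (normal_of_index_eq_two index_S1).conj_mem ⟨x, hx.1⟩ hx ⟨g, hg⟩

theorem Kt_le : Kt ≤ coS1 := by
  rw [← Ey_eq]
  refine sup_le (fun x hx => ⟨Th_le_co (coE_le_Th hx), ?_⟩) (zpowers_le.2 ⟨y_mem, by simp⟩)
  have := mul_mem hx (conjE _ y_mem _ (inv_mem hx))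
  convert this using 1; group

theorem nrm (Y : Subgroup M24) (h1 : co.E ≤ Y) (h2 : Y ≤ co.S0)
    (h3 : ∀ g ∈ co.S0, ∀ x ∈ Y, g * x * g⁻¹ ∈ Y) :
    Y ≤ co.E ⊔ zpowers (mc yC) ∨ co.S1 (mc yC) ⊆ Y := by
  let φ : co.S0 →* Equiv.Perm (famOf 6 sx0) := resHom M24 (famOf 6 sx0)
  have hk : ∀ g : co.S0, (g : M24) ∈ Kt ↔ g ∈ φ.ker := fun g =>
    mem_Kt.trans (mem_ker_resHom _ g).symm
  have h6 : Nat.card (famOf 6 sx0) = 6 := by
    rw [Nat.card_eq_fintype_card, Fintype.card_coe, sx0_mem.1]
  have hs : Function.Surjective φ := surjective_of_card_ker φ (by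
    rw [← card_map_subtype _ (Kt_le.trans S1_le) hk, card_Kt, card_S0_co, Nat.card_perm, h6]; rfl)
  have hA : (coS1.subgroupOf co.S0).map φ = alternatingGroup _ :=
    Equiv.Perm.eq_alternatingGroup_of_index_eq_two (by
      rw [index_map_eq _ hs fun g hg => Kt_le ((hk g).2 hg), index_S1])
  have hN := map_normal φ hs h3
  rcases ((Y.subgroupOf co.S0).map φ).bot_or_nontrivial with h | h
  · refine Or.inl fun x hx => Ey_eq ▸ (hk ⟨x, h2 hx⟩).2 ?_
    rw [MonoidHom.mem_ker, ← mem_bot, ← h]
    exact mem_map_of_mem _ hx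
  have hle := Equiv.Perm.alternatingGroup_le_of_normal (by rw [h6]; norm_num) h
  have hY : (Y.subgroupOf co.S0).Normal := ⟨fun x hx g => h3 g g.2 x hx⟩
  let ψ := QuotientGroup.mk' (Y.subgroupOf co.S0)
  have h0 : ∀ u : co.S0, ψ u = 1 ↔ (u : M24) ∈ Y := fun u => QuotientGroup.eq_one_iff u
  have hz : ∀ g : co.S0, (g : M24) ∈ coS1 → ψ g ∈ zpowers (ψ ⟨_, y_mem⟩) := fun g hg => by
    obtain ⟨x, hx, e⟩ := hle (hA ▸ mem_map_of_mem φ (mem_subgroupOf.2 hg))
    have h4 : ((x⁻¹ * g : co.S0) : M24) ∈ co.E ⊔ zpowers (mc yC) := Ey_eq ▸ (hk _).2 (by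
      rw [MonoidHom.mem_ker, map_mul, map_inv, e, inv_mul_cancel])
    rw [show ψ g = ψ (x⁻¹ * g) by rw [map_mul, map_inv, (h0 x).2 hx, inv_one, one_mul]]
    rcases co.tri conjE y_mem y_pow h4 with h | h | h
    · rw [(h0 _).2 (h1 h)]; exact one_mem _
    · have := (h0 (x⁻¹ * g * ⟨_, y_mem⟩⁻¹)).2 (h1 h)
      rw [map_mul, map_inv, mul_inv_eq_one] at this
      rw [this]; exact mem_zpowers _
    · have := (h0 (x⁻¹ * g * ⟨_, y_mem⟩)).2 (h1 h)
      rw [map_mul, mul_eq_one_iff_eq_inv] at this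
      rw [this]; exact inv_mem (mem_zpowers _)
  have ia : InH coS1 113810327045635467643756832037755179 := inH_S1 (by decide +kernel)
  have ib : InH coS1 89910832433355462565615099402986699 := inH_S1 (by decide +kernel)
  have e : (⟨_, y_mem⟩ : co.S0) = ⁅(⟨_, S1_le ia.mc_mem⟩ : co.S0), ⟨_, S1_le ib.mc_mem⟩⁆ :=
    Subtype.ext (cd_inj (by
      show cd (mc yC) = cd (mc _ * mc _ * (mc _)⁻¹ * (mc _)⁻¹)
      rw [cd_mul _ (mc _)⁻¹, cd_conj, cd_inv, okM_of_inH ia, okM_of_inH ib, cd_mc ok_yC]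
      decide +kernel))
  have hy : ψ ⟨_, y_mem⟩ = 1 := by
    obtain ⟨i, hi⟩ := hz ⟨_, S1_le ia.mc_mem⟩ ia.mc_mem
    obtain ⟨j, hj⟩ := hz ⟨_, S1_le ib.mc_mem⟩ ib.mc_mem
    have hc := (Commute.refl (ψ ⟨_, y_mem⟩)).zpow_zpow i j
    simp only at hi hj
    rw [hi, hj] at hc
    rw [e, map_commutatorElement, hc.commutator_eq]
  refine Or.inr fun g hg => (h0 ⟨g, hg.1⟩).1 ?_
  have := hz ⟨g, hg.1⟩ hg
  rwa [hy, zpowers_one_eq_bot, mem_bot] at this

/-- A generator of `S1`. -/
def s0 : ℕ := 317319911691923356184933904342689478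
/-- A generator of `S1`. -/
def s1 : ℕ := 941279423873748936141614034990465059

theorem inH_s : ∀ c ∈ [s0, s1], InH coS1 c := fun c hc => inH_S1 (by revert c; decide +kernel)

/-- Distances to the class of `1` modulo `W`. -/
def rk : ℕ := 0x42344234233223322332233242344234423442342332233223322332423442343442344232233223322332233442344234423442322332233223322334423442233223324234423442344234233223322332233242344234423442342332233232233223344234423442344232233223322332233442344234423442322332233442344232233223322332233442344234423442322332233223322334423442423442342332233223322332423442344234423423322332233223324234423432233223344234423442344232233223322332233442344234423442322332232332233242344234423442342332233223322332423442344234423423322332344234423223322332233223344234423442344232233223322332233442344242344234233223322332233242344234423442342332233223322332423442343223322334423442344234423223322332233223344234423442344232233223233223324234423442344234233223322332233242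34423442344234233223324234423423322332233223324234423442344234233223322332233242344234344234423223322332233223344234423442344232233223322332233442344223322332423442344234423423322332233223324234423442344234233223323223322334423442344234423223322332233223344234423442344232233223443144310f410f410f410f4144314431443144310f410f410f410f414431443131443144410f410f410f410f3144314431443144410f410f410f410f314431440f410f4144314431443144310f410f410f410f4144314431443144310f410f41410f410f3144314431443144410f410f410f410f3144314431443144410f410f31443144410f410f410f410f3144314431443144410f410f410f410f31443144443144310f410f410f410f4144314431443144310f410f410f410f4144314431410f410f3144314431443144410f410f410f410f3144314431443144410f410f0f410f4144314431443144310f410f410f410f4144314431443144310f410f4131443144410f410f410f410f3144314431443144410f410f410f410f31443144443144310f410f410f410f4144314431443144310f410f410f410f4144314431410f410f3144314431443144410f410f410f410f3144314431443144410f410f0f410f4144314431443144310f410f410f410f4144314431443144310f410f41443144310f410f410f410f4144314431443144310f410f410f410f414431443131443144410f410f410f410f3144314431443144410f410f410f410f314431440f410f4144314431443144310f410f410f410f4144314431443144310f410f41410f410f3144314431443144410f410f410f410f3144314431443144410f410f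

theorem rel {a : ℕ} (ha : a < 2048) (h : ¬ co.inW a) : co.Rel coS1 a 1 := by
  simpa using co.rel_of_rank (fun _ => inW_co) inH_s [1] (by decide) rk (by decide +kernel) a ha h

end TabC

theorem card_coS1 : Nat.card coS1 = 69120 := by
  have := (coS1.subgroupOf co.S0).index_mul_card
  rw [index_S1, card_S0_co, Nat.card_congr (subgroupOfEquivOfLe S1_le).toEquiv] at this
  omega

theorem card_coEy : Nat.card (co.E ⊔ zpowers (mc yC) : Subgroup M24) = 192 := card_Ey

theorem mem_Th_coS1 {g : M24} : g ∈ Th ⊓ coS1 ↔ ∃ b < 512, eT b = cd g := by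
  constructor
  · rintro ⟨h1, h2⟩
    obtain ⟨b, hb, e⟩ := mem_Th.1 h1
    exact ⟨b, (eT_mem hb).1 (by rwa [e, mc_cd]), e⟩
  · rintro ⟨b, hb, e⟩
    exact ⟨mem_Th.2 ⟨b, by omega, e⟩, by rw [← mc_cd g, ← e]; exact (eT_mem (by omega)).2 hb⟩

/-- `S1` is transitive on the nonzero classes of `V/W`. -/
theorem trVW {a b : ℕ} (ha : a < 2048) (hb : b < 2048) (h1 : ¬ co.inW a) (h2 : ¬ co.inW b) :
    ∃ g ∈ coS1, co.inW (co.act (cd g) a ^^^ b) := by
  obtain ⟨g, hg, h3⟩ := rel ha h1
  obtain ⟨h, hh, h4⟩ := rel hb h2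
  have l1 : ∀ c x, co.act c x ^^^ 1 < 2048 := fun c x => xor_lt (co.act_lt _ _) (by norm_num)
  have h5 := co.inW_act conjE (inv_mem hh.1) (xor_lt (l1 _ _) (l1 _ _))
    (co.inW_xor (l1 _ _) (l1 _ _) h3 h4)
  rw [xor4, Nat.xor_self, Nat.xor_zero, co.act_xor _ (co.act_lt _ _) (co.act_lt _ _),
    co.act_inv_act h hb, ← co.act_mul _ _ ha] at h5
  exact ⟨_, mul_mem (inv_mem hh) hg, h5⟩

/-- `S1/E` is perfect: `S1/E⟨y⟩ ≅ Alt(6)` and `y` is a commutator. -/
theorem coS1_perfect : coS1 ≤ ⁅coS1, coS1⁆ ⊔ co.E := by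
  have hc : ∀ g ∈ co.S0, ∀ x ∈ ⁅coS1, coS1⁆, g * x * g⁻¹ ∈ ⁅coS1, coS1⁆ := fun g hg => by
    have : ⁅coS1, coS1⁆ ≤ ⁅coS1, coS1⁆.comap (MulAut.conj g).toMonoidHom :=
      commutator_le.2 fun p hp q hq => by
        rw [mem_comap, map_commutatorElement]
        exact commutator_mem_commutator (conj_S1 g hg p hp) (conj_S1 g hg q hq)
    exact fun x hx => this hx
  refine (nrm _ le_sup_right (sup_le ((commutator_le.2 fun p hp q hq =>
    mul_mem (mul_mem (mul_mem hp hq) (inv_mem hp)) (inv_mem hq)).trans S1_le)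
    (coE_le_Th.trans Th_le_co)) (conj_sup hc conjE)).resolve_left fun h => ?_
  have i0 := inH_s s0 (by simp)
  have i1 := inH_s s1 (by simp)
  have h1 := (S1551.fix_iff _).1 (mem_Kt.1 (Ey_le (h (mem_sup_left
    (commutator_mem_commutator i0.mc_mem i1.mc_mem))))) 15 (by simp)
  rw [smul_setOf'_M] at h1
  have h2 : imgC (cd (mc s0 * mc s1 * (mc s0)⁻¹ * (mc s1)⁻¹)) 15 = 15 :=
    setOf'_inj (imgC_lt _ _) (by norm_num) h1
  rw [cd_mul _ (mc _)⁻¹, cd_conj, cd_inv, okM_of_inH i0, okM_of_inH i1] at h2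
  exact absurd h2 (by decide +kernel)

theorem tab_co : co.Tab (mc yC) := by
  have i0 := inH_s s0 (by simp)
  have i2 : InH Th (eT 72) := inH_eT (by norm_num)
  have o1 : okM 709374769266100668298828054228701607 = true := by decide +kernel
  have o2 : okM 812116559604720018050371842780268902 = true := by decide +kernel
  refine co.tab_of (fun _ => inW_co) (El := List.range 64)
    (fun _ => by simp only [mem_coE, List.mem_range]) [1, 2, 4, 8, 16, 32]
    [4, 24, 32, 66, 136, 258, 514] (by decide) (by decide +kernel) Th_le_co coE_le_Th conjE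
    (co.irr_of [148075699153093052927428468676369409, 505326233239971443636423578135892011,
      389587890927096687346979304889555491, 417464899217872904448508358037741136,
      689296513580720159812880369250031719, 470577934571042691619271863176437814,
      217334986559665922448974142122860878, 765382298849616685874697580769018070,
      21727982444113804253105262191270479, 597729394045216292863704670683531601,
      751758695448525672167696301530120550] [7, 11, 13, 14, 28, 44, 76, 140, 268, 524, 1036]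
      (by decide +kernel) (by decide +kernel))
    ⟨mc 709374769266100668298828054228701607, mc 812116559604720018050371842780268902,
      by rw [cd_mc o1, cd_mc o2]; decide +kernel,
      (inW_co (co.act_lt _ _)).2 (by rw [cd_mc o1]; decide +kernel)⟩
    y_mem y_pow y_conj
    (fun a ha => (inW_co (xor_lt (co.act_lt _ _) (tbs_lt a ha))).2 (by
      rw [cd_mc ok_yC]; revert a; decide +kernel))
    (Or.inr ⟨4, by norm_num, (inW_co (by norm_num)).2 (by decide +kernel), by
      rw [cd_mc ok_yC]; decide +kernel⟩)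
    (fun A hx hA hW b hb h1 h2 a ha => ?_) nrm i0.mc_mem
    ⟨2, by norm_num, by
      rw [inW_co (xor_lt (co.act_lt _ _) (by norm_num)), okM_of_inH i0]; decide +kernel⟩
    ⟨4, by norm_num, (inW_co (by norm_num)).2 (by decide +kernel), by
      rw [okM_of_inH i0]; decide +kernel⟩
    ((eT_mem (b := 72) (by norm_num)).2 (by norm_num))
    (cd_inj (by rw [cd_mul, okM_of_inH i2, cd_one]; decide +kernel))
    (by rw [mem_coE, okM_of_inH i2]; decide +kernel)
    (Kt_le (Ey_le (mem_sup_right (mem_zpowers _)))) y_pow y_ne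
  by_cases h : co.inW a
  · exact hW a ha h
  · obtain ⟨g, hg, h3⟩ := trVW hb ha h2 h
    exact (Md.Rel.iff hx hA hW hb ha ⟨g, hg.1, h3⟩).1 h1

end Cfsg.Agent.R24
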