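import Cfsg.Agent.R24.Syl
import Cfsg.Agent.TT.LX

/-!
# Definitions shared by the parts of the proof of S3318 (guide `99_r24`)
-/

set_option autoImplicit false
set_option linter.unusedSimpArgs false

namespace Cfsg.Agent.R24

open Cfsg Cfsg.Agent.Comp Cfsg.Agent.Spor Cfsg.Agent.Spor.M24C Subgroup
open scoped Pointwise commutatorElement

section General
variable {G : Type*} [Group G]

/-- `A` is weakly closed with respect to `K` in every 2-subgroup containing it. -/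
def WCl (K A : Subgroup G) : Prop :=
  ∀ P : Subgroup G, IsPGroup 2 P → A ≤ P → ∀ k ∈ K, cj k A ≤ P → cj k A = A

/-- `A ≤ K` is elementary abelian modulo `⟨z⟩`, `z ∈ A` central in `K` of order at most 2. -/
structure AbZ (K A : Subgroup G) (z : G) : Prop where
  le : A ≤ K
  z_mem : z ∈ A
  z_sq : z * z = 1
  z_cent : ∀ k ∈ K, k * z = z * k
  sq : ∀ a ∈ A, a * a ∈ zpowers z

/-- The normal closure of `A` in `K`. -/
def ncl (K A : Subgroup G) : Subgroup G := closure {x | ∃ k ∈ K, ∃ a ∈ A, k * a * k⁻¹ = x}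

/-- `P` is a Sylow 2-subgroup of `K`. -/
structure Syl2 (P K : Subgroup G) : Prop where
  le : P ≤ K
  two : IsPGroup 2 P
  max : ∀ R : Subgroup G, IsPGroup 2 R → P ≤ R → R ≤ K → R = P

/-- `O(K) = 1`. -/
def NoOdd (K : Subgroup G) : Prop :=
  ∀ O : Subgroup G, O ≤ K → K ≤ normalizer (O : Set G) → Odd (Nat.card O) → O = ⊥

theorem cj_one (A : Subgroup G) : cj 1 A = A := by ext x; simp [mem_cj]

theorem cj_cj (g h : G) (A : Subgroup G) : cj g (cj h A) = cj (g * h) A := by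
  ext x; simp [mem_cj, mul_assoc]

theorem conj_mem_cj {g x : G} {A : Subgroup G} : g * x * g⁻¹ ∈ cj g A ↔ x ∈ A := by
  simp [mem_cj, mul_assoc]

theorem cj_mono (g : G) {A B : Subgroup G} (h : A ≤ B) : cj g A ≤ cj g B := map_mono h

theorem card_cj (g : G) (A : Subgroup G) : Nat.card (cj g A) = Nat.card A :=
  card_map_of_injective (MulAut.conj g).injective

theorem cj_eq_iff {g : G} {A : Subgroup G} : cj g A = A ↔ g ∈ normalizer (A : Set G) := by
  rw [mem_normalizer_iff]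
  constructor
  · intro h x; rw [← conj_mem_cj (g := g), h]
  · intro h; ext x
    rw [mem_cj]
    have := h (g⁻¹ * x * g)
    simpa [mul_assoc] using this

theorem mem_normalizer_cj {g x : G} {A : Subgroup G} :
    x ∈ normalizer (cj g A : Set G) ↔ g⁻¹ * x * g ∈ normalizer (A : Set G) := by
  rw [← cj_eq_iff, ← cj_eq_iff, cj_cj]
  constructor
  · intro h
    have := congrArg (cj g⁻¹) h
    rwa [cj_cj, cj_cj, inv_mul_cancel, cj_one, ← mul_assoc] at this
  · intro h
    have := congrArg (cj g) h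
    rwa [cj_cj, ← mul_assoc, ← mul_assoc, mul_inv_cancel, one_mul] at this

theorem isPGroup_cj {A : Subgroup G} (h : IsPGroup 2 A) (g : G) : IsPGroup 2 (cj g A) := h.map _

end General

namespace Md
variable (D : Md)

/-- Membership in `W`, in coordinates (see `St.f_mem_W`). -/
def inW (a : ℕ) : Prop :=
  ∀ g ∈ D.E, D.act (cd g) a ^^^ a = 0 ∨ D.act (cd g) a ^^^ a = D.z0

open Classical in
/-- The vectors fixed by `X`. -/
noncomputable def fx (X : Subgroup M24) : Finset ℕ :=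
  (Finset.range 2048).filter fun a => ∀ x ∈ X, D.act (cd x) a = a

/-- The elements of `S0` centralising `y` modulo `E`. -/
def S1 (y : M24) : Set M24 := {g | g ∈ D.S0 ∧ g * y * g⁻¹ * y⁻¹ ∈ D.E}

/-- No offenders, and the rank of `M24` is 6. -/
def FF : Prop := ∀ X : Subgroup M24, (∀ x ∈ X, x * x = 1) → X ≠ ⊥ →
  Nat.card X ≤ 64 ∧ Nat.card X * (D.fx X).card ≤ 1024

/-- The finite check for the fusion hypothesis of Holt's theorem. -/
def HoltChk : Prop := ∀ Y : Subgroup M24, (∀ x ∈ Y, x * x = 1) → ∀ τ ∈ Y, τ ≠ 1 →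
  ∀ U : Finset ℕ, (∀ d ∈ U, d < 2048) → (∀ d ∈ U, ∀ e ∈ U, d ^^^ e ∈ U) →
    (∀ d ∈ U, ∀ x ∈ Y, D.act (cd x) d = d) →
    (∀ a < 2048, D.act (cd τ) a = a → ∀ x ∈ Y, D.act (cd x) a ^^^ a ∈ U) →
    (∀ d ∈ U, ∀ g : M24, D.act (cd g) D.z0 ≠ d) → 2 ≤ U.card →
    Nat.card Y * U.card < 64

open Classical in
/-- Facts about `M24`, `S0`, `E` and the module, common to both cases; `y = 1` for `go`, and
`y = mc yC` (of order 3, generating `O_{2,3}(S0)` modulo `E`) for `co`. -/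
structure Tab (y : M24) : Prop where
  Th_le : Th ≤ D.S0
  E_le : D.E ≤ Th
  E_sq : ∀ x ∈ D.E, x * x = 1
  E_conj : ∀ g ∈ D.S0, ∀ x ∈ D.E, g * x * g⁻¹ ∈ D.E
  fixE : ∀ a < 2048, (∀ g ∈ D.E, D.act (cd g) a = a) → a = 0 ∨ a = D.z0
  /-- the conjugates of `z0` span -/
  irr : ∀ A : ℕ → Prop, (∀ a b, A a → A b → A (a ^^^ b)) → (∀ g : M24, A (D.act (cd g) D.z0)) →
    ∀ a < 2048, A a
  /-- a four-group inside `W` all of whose involutions are conjugate to `z0` -/
  four : ∃ g h : M24, D.act (cd g) D.z0 ^^^ D.act (cd h) D.z0 = D.z0 ∧ D.inW (D.act (cd g) D.z0)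
  y_mem : y ∈ D.S0
  y_pow : y ^ 3 = 1
  y_conj : ∀ g ∈ D.S0, g * y * g⁻¹ * y⁻¹ ∈ D.E ∨ g * y * g⁻¹ * y ∈ D.E
  /-- `y` centralises `V/W` -/
  y_VW : ∀ a < 2048, D.inW (D.act (cd y) a ^^^ a)
  /-- the kernel on `V/W` -/
  onVW : ∀ g ∈ D.S0, (∀ a < 2048, D.inW (D.act (cd g) a ^^^ a)) → g ∈ D.E ⊔ zpowers y
  /-- the kernel on `W/⟨z⟩` -/
  onWz : ∀ g ∈ D.S0, (∀ a < 2048, D.inW a →
    D.act (cd g) a ^^^ a = 0 ∨ D.act (cd g) a ^^^ a = D.z0) → g ∈ D.E
  /-- the kernel on `W` -/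
  onW : ∀ g : M24, (∀ a < 2048, D.inW a → D.act (cd g) a = a) → g = 1
  idx4 : ∀ s ∈ D.E, s ≠ 1 → ((Finset.range 2048).filter fun a =>
    D.act (cd s) a ^^^ a = 0 ∨ D.act (cd s) a ^^^ a = D.z0).card ≤ 512
  /-- `S0` is irreducible on `V/W` -/
  irrVW : ∀ A : ℕ → Prop, (∀ a b, A a → A b → A (a ^^^ b)) →
    (∀ g ∈ D.S0, ∀ a < 2048, A a → A (D.act (cd g) a)) → (∀ a < 2048, D.inW a → A a) →
    ∀ b < 2048, A b → ¬ D.inW b → ∀ a < 2048, A a
  /-- normal subgroups of `S0` above `E` -/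
  nrm : ∀ Y : Subgroup M24, D.E ≤ Y → Y ≤ D.S0 → (∀ g ∈ D.S0, ∀ x ∈ Y, g * x * g⁻¹ ∈ Y) →
    Y ≤ D.E ⊔ zpowers y ∨ D.S1 y ⊆ Y
  oddN : ∀ Y : Subgroup M24, D.E ≤ Y → Y ≤ D.S0 → (∀ g ∈ D.S0, ∀ x ∈ Y, g * x * g⁻¹ ∈ Y) →
    Odd (D.E.relIndex Y) → Y ≤ D.E ⊔ zpowers y
  twoN : ∀ Y : Subgroup M24, Y ≤ D.S0 → (∀ g ∈ D.S0, ∀ x ∈ Y, g * x * g⁻¹ ∈ Y) →
    IsPGroup 2 Y → Y ≤ D.E
  /-- `E` is Sylow in `E⟨y⟩` -/
  inf_Th : Th ⊓ (D.E ⊔ zpowers y) ≤ D.E

/-- All the facts. -/
structure Good (y : M24) : Prop extends D.Tab y where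
  ff : D.FF
  holt : D.HoltChk

end Md

/-- The element of order 3 in the kernel of the sextet group on the tetrads. -/
def yC : ℕ := 216033676012960494084133565066415168

theorem ok_yC : okM yC = true := by decide +kernel

/-- The mask of `W` in the Golay module. -/
def gWm : ℕ := 0x80000000800000008000000080000000000000000000000000000000000000008000000080000000800000008000000000000000000000000000000000000000800000008000000080000000800000000000000000000000000000000000000080000000800000008000000080000000000000000000000000000000000000000000000000000000000000000000000000000001000000010000000100000001000000000000000000000000000000000000000100000001000000010000000100000000000000000000000000000000000000010000000100000001000000010000000000000000000000000000000000000001000000010000000100000001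

/-- The mask of `W` in the cocode module. -/
def cWm : ℕ := 0x44440000444400001111000011110044000044440000441100001111000011001111000011110000444400004444001100001111000011440000444400004400111100001111000044440000444400110000111100001144000044440000440044440000444400001111000011110044000044440000441100001111000011

/-- `act c a ^^^ a ∈ {0, z0}` as a test. -/
noncomputable def Md.cz (D : Md) (c a : ℕ) : Bool :=
  force (Nat.xor (D.act c a) a) fun x => or' (Nat.beq x 0) (Nat.beq x D.z0)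

theorem Md.cz_iff (D : Md) (c a : ℕ) :
    D.cz c a = true ↔ D.act c a ^^^ a = 0 ∨ D.act c a ^^^ a = D.z0 := by
  simp only [Md.cz, force_eq, or'_eq_true, beq_iff]; rfl

theorem inW_go_aux : allB 2048 (fun a => ite' (tb gWm a) (allL goEl fun b => go.cz (eT b) a)
    (not' (allL [1, 4, 80, 434] fun b => go.cz (eT b) a))) = true := by decide +kernel

theorem inW_go {a : ℕ} (ha : a < 2048) : go.inW a ↔ gWm.testBit a = true := by
  have h := (allB_iff _ _).1 inW_go_aux a ha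
  rw [ite'_eq, tb_eq] at h
  split_ifs at h with h1
  · refine ⟨fun _ => h1, fun _ g hg => ?_⟩
    obtain ⟨b, hb, e⟩ := mem_goE.1 hg
    rw [← e, ← Md.cz_iff]; exact (allL_iff _ _).1 h b hb
  · refine ⟨fun h2 => absurd ((allL_iff _ _).2 fun b hb => ?_) ((not'_eq_true _).1 h),
      fun h2 => absurd h2 h1⟩
    have hb' : b ∈ goEl ∧ b < 1024 := by revert b; decide
    have := h2 (mc (eT b)) (mem_goE.2 ⟨b, hb'.1, (okM_of_inH (inH_eT hb'.2)).symm⟩)
    rwa [okM_of_inH (inH_eT hb'.2), ← Md.cz_iff] at this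

theorem inW_co_aux : allB 2048 (fun a => ite' (tb cWm a) (allLT 64 fun b => co.cz (eT b) a)
    (not' (allL [1, 2, 4, 8, 16, 32] fun b => co.cz (eT b) a))) = true := by decide +kernel

theorem inW_co {a : ℕ} (ha : a < 2048) : co.inW a ↔ cWm.testBit a = true := by
  have h := (allB_iff _ _).1 inW_co_aux a ha
  rw [ite'_eq, tb_eq] at h
  split_ifs at h with h1
  · refine ⟨fun _ => h1, fun _ g hg => ?_⟩
    obtain ⟨b, hb, e⟩ := mem_coE.1 hg
    rw [← e, ← Md.cz_iff]; exact (allLT_iff _ _).1 h b hb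
  · refine ⟨fun h2 => absurd ((allL_iff _ _).2 fun b hb => ?_) ((not'_eq_true _).1 h),
      fun h2 => absurd h2 h1⟩
    have hb' : b < 64 := by revert b; decide
    have h3 : b < 1024 := by omega
    have := h2 (mc (eT b)) (mem_coE.2 ⟨b, hb', (okM_of_inH (inH_eT h3)).symm⟩)
    rwa [okM_of_inH (inH_eT h3), ← Md.cz_iff] at this

namespace St
variable {G : Type*} [Group G] {D : Md} (S : St G D)

theorem f_mem_W' {a : ℕ} (ha : a < 2048) : S.f a ∈ S.W ↔ D.inW a := S.f_mem_W ha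

theorem z_mem_W (hE : D.E ≤ D.S0) : S.z ∈ S.W := (S.f_mem_W D.z0_lt).2 fun g hg =>
  Or.inl (by rw [(D.mem_S0' g).1 (hE hg), Nat.xor_self])

theorem card_W_go (S : St G go) : Nat.card S.W = 32 := by
  rw [S.card_eq_filter S.W_le_V (fun a => gWm.testBit a = true)
    fun a ha => (S.f_mem_W' ha).trans (inW_go ha)]
  decide +kernel

theorem card_W_co (S : St G co) : Nat.card S.W = 128 := by
  rw [S.card_eq_filter S.W_le_V (fun a => cWm.testBit a = true)
    fun a ha => (S.f_mem_W' ha).trans (inW_co ha)]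
  decide +kernel

/-- The candidate `Q` for `O₂(C(z))`: extraspecial, `Q ∩ V = W`, `P = Q V`, normal in `H0`. -/
structure IsQ (Q : Subgroup G) : Prop where
  xs : TT.XS Q S.z
  W_le : S.W ≤ Q
  le_P : Q ≤ S.P
  inf_V : Q ⊓ S.V ≤ S.W
  dec : ∀ x ∈ S.P, ∃ q ∈ Q, ∃ v ∈ S.V, x = q * v
  norm : S.H0 ≤ normalizer (Q : Set G)

/-- `A` is strongly closed in `H0` with respect to `H`. -/
def SC (A : Subgroup G) : Prop := ∀ a ∈ A, ∀ h ∈ S.H, h * a * h⁻¹ ∈ S.M → h * a * h⁻¹ ∈ A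

/-- The `H`-conjugates of the elements of `W` outside `⟨z⟩`. -/
def Om (t : G) : Prop := t ∉ zpowers S.z ∧ ∃ h ∈ S.H, h * t * h⁻¹ ∈ S.W

/-- An element `u` of order 3 above `y`, fixed-point-free on `Q/⟨z⟩`, with `Q⟨u⟩ ⊴ H0`. -/
structure CY (Q : Subgroup G) (y : M24) (u : G) : Prop where
  mem : u ∈ S.M
  p_eq : S.p u = y
  pow : u ^ 3 = 1
  comm : ∀ x ∈ S.P, ⁅u, x⁆ ∈ Q
  fpf : ∀ q ∈ Q, q * (u * q * u⁻¹) * (u * u * q * (u * u)⁻¹) ∈ zpowers S.z
  conj : ∀ m ∈ S.H0, m * u * m⁻¹ * u⁻¹ ∈ Q ∨ m * u * m⁻¹ * u ∈ Q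

end St

end Cfsg.Agent.R24
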