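import Cfsg.Agent.R24.Enum

/-!
# Fast versions of the bit loops and of the enumeration (`Nat.log2` is slow in the kernel)
-/

set_option autoImplicit false

namespace Cfsg.Agent.R24

open Cfsg Cfsg.Agent.Comp Cfsg.Agent.Spor Cfsg.Agent.Spor.M24C Subgroup
open scoped Pointwise commutatorElement

/-- `force` for long masks: the value is stored with a residue in its low word, so that the terms
built from it have different hashes. -/
noncomputable def fs {α : Type} (x : ℕ) (k : ℕ → α) : α :=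
  force (Nat.lor (Nat.shiftLeft x 64) (Nat.mod x 18446744073709551557)) fun y =>
    k (Nat.shiftRight y 64)

theorem fs_eq {α : Type} (x : ℕ) (k : ℕ → α) : fs x k = k x := by
  rw [fs, force_eq]
  congr 1
  change ((x <<< 64) ||| (x % 18446744073709551557)) >>> 64 = x
  rw [Nat.shiftRight_or_distrib, Nat.shiftLeft_shiftRight, Nat.shiftRight_eq_div_pow,
    Nat.div_eq_of_lt (lt_trans (Nat.mod_lt _ (by norm_num)) (by norm_num)), Nat.or_zero]

/-- Translation by `c % 2^n`. -/
noncomputable def xlNF (M c n : ℕ) : ℕ :=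
  Nat.rec (motive := fun _ => ℕ) (Nat.land M (onz 2048))
    (fun k ih => ite' (tb c k) (fs ih (xl1 k)) ih) n

theorem xlNF_eq (M c n : ℕ) : xlNF M c n = xlN M c n := by
  simp only [xlNF, xlN, fs_eq, force_eq]

/-- Translation by `c`. -/
noncomputable def xlF (M c : ℕ) : ℕ := xlNF M c 11

theorem xlF_eq (M c : ℕ) : xlF M c = xl M c := xlNF_eq M c 11

/-- The image. -/
noncomputable def spnF (C : ℕ) : ℕ :=
  Nat.rec (motive := fun _ => ℕ) 1
    (fun k ih => fs ih fun m => force (dig 11 2047 C k) fun c => Nat.lor m (xlF m c)) 11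

theorem spnF_eq (C : ℕ) : spnF C = spn C := by
  simp only [spnF, spn, spnN, fs_eq, force_eq, xlF_eq]

/-- Discrete logarithms modulo 2053. -/
def lowT : ℕ := 0x80300a4dc030152713dc04a6a02cbb49d37a9f05240522b4db1980c62a5ddebc9e82e6fae7a7daa229434c0642045b44537f6d8d12b80d104c586c17827cf6196c9f1eb060d79bf84d742c1a7ed9b5490b0a6c001a9d7c07b94844191178e3a25a653856fede58e35fe89632200ecd220cb0b17a44366f59791884fc1bbd9206cb91e4a01de3d9554194066c3381c0e4509cee5d16096102627f1f9b3bf25535e285fc98a7ddf8048e06b040ec389c082e572c6a21295a0ccec118ebf1cbb1e8a78ed379b5392b4ae0c7fb872b2cbc2e36493fd63b2595bf9166000f4a39aa2a884c3a58a2db18efb48fb38da6777b14897a560314d0140dee0e34d3da77e4134732f8928f7954a12203c3320f72aaaadd1c1a198811e59b191f9c6859c1751c8d5fc287cc77672dd2dcec15a8d85daa13753280a963f56cecf5a1f9445554088bcb9d218dbde53e30a883fbc381e02a04475f786c3f60869ebb1299c52de4099305cf185ccd0a354d621305f2b8af03454e767f09191a3d80c64738a5d90cee8bcc2f215e34e5adcdf8053ac5a5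6cc4ab930c64311fb9688e58c9cb3eade194ee3741292b137f6e151dcf8a5abf0b83de6465d1305630104ec949a3e6b3a7159cf08534f879cc9631cd1721fb197a1df8cb524bc5da3b98db0f4cf25b5edfd6a49c597ba5eac7ac8c6052684b41410c3be3c4839d89a6d7d3db36cf0150105649a3c5d33061b12b1d23ef5bcae33ca27fa445060f1b8d994758f82dc55926aac218e92a3c1b92833714a054e4f32959b27f3243fce72121432b71c2ffaea786f24b6cb0230c29256f9e3d1defa139ad3dd3cedba0fa306c12d4ba2586453b592e84e9a3a9e17a81129532fd8fe036b6a226d028eb4571fe6f5022e66555a20117dfaf3d61cedbca19ca3b7f24f95ab5f1dad8a9ae508175ef19f9c118f6039df40e6211e4cafc35b86d38c7f1648229eb4fa413b2c2053409f15a2b6f498c0a0012653c9741458c5eadcd0cfa192a8d66566b6c0a1475a0c1a54afc8457ef4835474aa3371da095f8bc891ae22348eb761e68637c1c7497d14e2cf6551e67b4c68ce51989d0bc9a12af671b4fd48b5c44738f89c05f6d3bb758b8d515cfbe628cdabadfc61f10991537890f7fba588d15ce39787a653b8cb4713d5cb37875f0a785c6388ca82874a4ba8b89e94ff7ad9c2e2fc78b4a7cba125b85b7e6212e1995ef5bbe476b2ba58e4c2d6ab1e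4001125e9dde9a53afed22f3e6cf1e753c0c57d2ce7e708867d66a0cce1f3dae6bb796416c39e93c5de81101bab1a8fcf46f2f7f9be65fb6d256e778fb5f696d1dd1b50dc3c41efbb33d2492ddb65eeb35fb06f2936fce30f217cfa94c03eab2e3bd6bbc0c707e0a99f9a20b85a4931429d418a5cef9acfe29b703af3bb16f869c43cbeece3dcb566dff73c1912a8470106f44c954ae900ac2edc0331baec39c744b4d78ecf323fe97eb8bf72ccad1a3eb4a3cf4ffa991128288343f8f2d9571d5a6661823b38f8f9dd85bfae15748c93bbd2ad77843464ba5dc952020c1c3f1254160cecbd8a9a0a06bea9ccd23cd0ef4b02f1b3614fe8b5c917edfe89467344c244a250dc9d5be761c3c1bff8323aa46fc3a5df25d436df7dac170d18ab4c2a6ac4b3c63e81671edb81dfb2ff441e4e7f356a3cfdd4e919df63ee97727d6f930744782b4f353b29d1510587b148a97eed7d7a97acf04fb1b349ef6a8abf0c2d6a8245a254dcd4d2757f3f80ff600071e1adb66f11645ed1db452151ad2ea4b90717e7d81ea48408cf99337d25564c344593846517f014baf4b43ac74973c6c8de82c21a0a59485eee00e7929c1796b2156d99fc86c0d72ec8aa9ab5cd88421a3abb1c86f27c33f626f05bbac7d36e04d573c31ed04871314f411fac499920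bf115dae3a686e86671fd81fdc2eb28c0023b613db9753f9b320f2c3b350b8463514e398053ec71646145a52dbeaee4cb3e40b1300020049a0129ea9a17537828c8a632628f5a0b5ceaa01a107e87f6a958408d727acb07a1ae84b60b66215bfeebae48318e0d2d5b4b0fe790f34160a437a8618362048ec772a94059bf909db60612c7dfe35e1e4b7711b03fc48b88d395875faf76278dcd4ac98e729e11244755bd2fd28454c3916bbe766674a415799fdeda65df68d891ca487e632a8e8865bca91d429d3abe7cb39373350da9a96a52d859e22421f39dbbf160f702a02fb8fd53c2976ee4be2fd086ac1715d54df806818b8a2673302bb5abbff1618830b889a1992eaaa7104625e127c2fbfbb5ceb153ab463a4e74d33981cb0f9e7995bc3dc83ccb5fd4e2a9775805059c30788d86be4daa9f6462e586639f59199fe20bb8a3a8b6a4c21751a49e284e34a9fc7f811f5b7fe70cb6b18095479f9f69b3a9f3c11d0d1425c9a10b849dfa03510ca32e2f4f32e87fbed5ede328648ab2d6ab8aea9f6c76774c34c9ad8e2ac89e920707812a284c000278142f5033254655601d6349c837a11ce6d093e43881d5e67e0a5ec5851da5f93ba0a1138b51887f86fb2dc9a9fbc66b7ee205347b961b9b879dc1c41655ee2de320e8a894a2b5c5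eb49d0616441992dd9ac31bd691fc973d2afd79bc7780d2b381f51983d9db85ad26e7edd23ede49bddb1b976a6ceda4f0f75246daecc8dd6fa78fe987ce39ddc1f33e0b649674cb8accdb7ce5ef43b66ed57ed91037fd0a940aadfeeb38d4d4797a517dcabf573cd318261fb64ab3181c7b75f5b48bde5dd8c8dc6100fb82bcbad02fa1a30ec1758496a7ea49d12943c9b3af0606346d2eb506fa70b5a1aaf8b164dbecb03bf33e7ba3ec67717c51169db2687ec4afcd79676c63ddabd6b1161b8273fbd7fbc266d22b6caa2ea23875f907f97e8d30326514a5ad06916c615c288bc0e4e06c7b326bf7626a30fa38e3df044cbb89b35563c86e79eb0a4015bd32197afc2c5fed7f2d9b195d42469397f5d17ca4aed9ec4bbff0114ccdd913627056a7a0ef682009e0f3849b2eff5c88dead7f9667a40308808ed403c81810fa5dfbb40f170957d75e295872691d6ea4fc37ded9caaedeaef62390e2a632a46ba67c9b9769d4959c10b6e41da007e4a5496d060b5528cf8a197d6a62b308d0baa207e117d9732743a2694723cebc01e3f4d2d04e17f611b4644c2fd5bfbb885b0854924e0fdc477fbb684a7e7674c0e89e67892032517d350ed5d93eac5709f53b5319c49e783a89fff14019594babc808e02470fe652f146f26a0fa8be15b8f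bbbf14cac2876e1d7b463a875aad1c2b990d5f5992dafbe374a3e93d62d39f47c9badc5b31e0245661be7d2e360f42d4e8acbe6d0e5a990fe802a5d54d3d272a678825b205feea488eeb711f6cb97cc3ab087e88932660b46ba7dc2354163657cc74676e886c9588d7762eaea2b270bf99aed8ea1afbe525f51367db10500e3639af4d3a36f7eedea986d58056431c2b6ba6ba833948baba89600e6e98954ef664ee11dfd8ddfc68f900400c057701d954f11c92dcc34ce37a4462a5231f1ed259bb6e7f949d04a9227ad3307d4f83ae53a038eeffe804db0590faab864253788db67f37034ce031e9756d579f298a7951213eca31f847e62a32837c1fb8a621d2f5a8568a63eb2af9a4cf573d9b8d9490b7be34166b221b90c14d346538222f921ee1cb61d1f9e4b468e0c5879776d6475d55c26ecd3a7fc9510d843835da3576a1a8abc29358e4d7400cc47d94228db478ffaed952e470cef32a2f89664fed03138c170639f77812b20b849bad960502fab27c4f113d8fb98505fb70e6a0cc6af67a66d920e3358e42a6782090b2d3f24662bddaeb926dd394386fa330d3099c800bec6361fe951860a82cbd00604e7024b836c40b4f713bcbfed540af536b8c48481f965193b426aa1a8c6120091ae5394fcfe736e0015139f66bcf1781c8c49a51700729b3f5bf1375e2069330059f44d40c00226400000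

/-- The lowest bit of `0 < x < 2^2048` (nothing is proved about it). -/
noncomputable def low (x : ℕ) : ℕ := dig 11 2047 lowT (Nat.mod (Nat.xor x (Nat.sub x 1)) 2053)

theorem testBit_rmT' {x i : ℕ} (h : x.testBit i = true) (j : ℕ) :
    (rmT x i).testBit j = true ↔ x.testBit j = true ∧ j ≠ i := by
  change (x ^^^ (1 <<< i)).testBit j = true ↔ _
  rw [Nat.testBit_xor, Nat.one_shiftLeft, Nat.testBit_two_pow]
  by_cases e : j = i
  · simp [e, h]
  · simp [e, Ne.symm e]

theorem card_rmT' {x i : ℕ} (h : x.testBit i = true) :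
    (bs x).card = (bs (rmT x i)).card + 1 := by
  have : bs (rmT x i) = (bs x).erase i := by
    ext j; rw [mem_bs, testBit_rmT' h, Finset.mem_erase, mem_bs, and_comm]
  rw [this, Finset.card_erase_add_one (mem_bs.2 h)]

/-- `p` holds for all bits (at most `n` of them). -/
noncomputable def allF (p : ℕ → Bool) (n : ℕ) : ℕ → Bool :=
  Nat.rec (motive := fun _ => ℕ → Bool) (fun x => Nat.beq x 0) (fun _ ih x =>
    or' (Nat.beq x 0) (force (low x) fun i => and' (p i) (fs (rmT x i) ih))) n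

theorem of_allF {p : ℕ → Bool} {n x : ℕ} (h : allF p n x = true) {j : ℕ}
    (hj : x.testBit j = true) : p j = true := by
  induction n generalizing x with
  | zero =>
    change Nat.beq x 0 = true at h
    rw [(beq_iff _ _).1 h] at hj; simp at hj
  | succ n ih =>
    change or' (Nat.beq x 0) (force (low x) fun i => and' (p i)
      (fs (rmT x i) (allF p n))) = true at h
    simp only [or'_eq_true, beq_iff, force_eq, fs_eq, and'_eq_true] at h
    by_cases h0 : x = 0
    · rw [h0] at hj; simp at hj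
    obtain ⟨h1, h2⟩ := h.resolve_left h0
    by_cases e : j = low x
    · rw [e]; exact h1
    · refine ih h2 ?_
      change (x ^^^ (1 <<< low x)).testBit j = true
      rw [Nat.testBit_xor, Nat.one_shiftLeft, Nat.testBit_two_pow]
      simp [hj, Ne.symm e]

/-- `p` holds for some bit. -/
noncomputable def anyF (p : ℕ → Bool) (n : ℕ) : ℕ → Bool :=
  Nat.rec (motive := fun _ => ℕ → Bool) (fun _ => false) (fun _ ih x =>
    force (low x) fun i => and' (tb x i) (or' (p i) (fs (rmT x i) ih))) n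

theorem of_anyF {p : ℕ → Bool} {n x : ℕ} (h : anyF p n x = true) :
    ∃ j, x.testBit j = true ∧ p j = true := by
  induction n generalizing x with
  | zero => exact absurd h Bool.false_ne_true
  | succ n ih =>
    change (force (low x) fun i => and' (tb x i) (or' (p i)
      (fs (rmT x i) (anyF p n)))) = true at h
    simp only [or'_eq_true, force_eq, fs_eq, and'_eq_true, tb_eq] at h
    rcases h.2 with h1 | h1
    · exact ⟨_, h.1, h1⟩
    · obtain ⟨j, h2, h3⟩ := ih h1
      exact ⟨j, ((testBit_rmT' h.1 j).1 h2).1, h3⟩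

/-- Fewer than `m` bits. -/
noncomputable def fewF (m : ℕ) : ℕ → Bool :=
  Nat.rec (motive := fun _ => ℕ → Bool) (fun _ => false) (fun _ ih x =>
    or' (Nat.beq x 0) (force (low x) fun i => and' (tb x i) (fs (rmT x i) ih))) m

theorem of_fewF {m x : ℕ} (h : fewF m x = true) : (bs x).card < m := by
  induction m generalizing x with
  | zero => exact absurd h Bool.false_ne_true
  | succ m ih =>
    change or' (Nat.beq x 0) (force (low x) fun i => and' (tb x i)
      (fs (rmT x i) (fewF m))) = true at h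
    simp only [or'_eq_true, beq_iff, force_eq, fs_eq, and'_eq_true, tb_eq] at h
    rcases h with rfl | h
    · simp [bs_zero]
    · rw [card_rmT' h.1]; exact Nat.succ_lt_succ (ih h.2)

/-- `k` holds for `acc` plus the number of bits. -/
noncomputable def cntF (k : ℕ → Bool) (n : ℕ) : ℕ → ℕ → Bool :=
  Nat.rec (motive := fun _ => ℕ → ℕ → Bool) (fun _ _ => false) (fun _ ih x acc =>
    ite' (Nat.beq x 0) (k acc) (force (low x) fun i => and' (tb x i)
      (fs (rmT x i) fun x' => force (Nat.succ acc) (ih x')))) n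

theorem of_cntF' {k : ℕ → Bool} {n x acc : ℕ} (h : cntF k n x acc = true) :
    k (acc + (bs x).card) = true := by
  induction n generalizing x acc with
  | zero => exact absurd h Bool.false_ne_true
  | succ n ih =>
    change ite' (Nat.beq x 0) (k acc) (force (low x) fun i => and' (tb x i)
      (fs (rmT x i) fun x' => force (Nat.succ acc) (cntF k n x'))) = true at h
    simp only [ite'_eq, beq_iff, force_eq, fs_eq] at h
    split_ifs at h with h0
    · simpa [h0, bs_zero] using h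
    · rw [and'_eq_true, tb_eq] at h
      have := ih h.2
      rwa [card_rmT' h.1, ← add_assoc, add_right_comm]

theorem of_cntF {k : ℕ → Bool} {n x : ℕ} (h : cntF k n x 0 = true) : k (bs x).card = true := by
  simpa using of_cntF' h

/-- The new coset; stop when it has an element below `j`. -/
noncomputable def cosF (r j : ℕ) (k : ℕ → Bool) (n : ℕ) : ℕ → ℕ → Bool :=
  Nat.rec (motive := fun _ => ℕ → ℕ → Bool) (fun _ _ => false) (fun _ ih x acc =>
    ite' (Nat.beq x 0) (k acc) (force (low x) fun i => and' (tb x i) (force (dig 8 255 r i) fun v =>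
      or' (Nat.blt v j) (fs (rmT x i) fun x' =>
        fs (Nat.lor acc (Nat.shiftLeft 1 v)) (ih x'))))) n

theorem of_cosF {r j : ℕ} {k : ℕ → Bool} {n x acc : ℕ} (h : cosF r j k n x acc = true) :
    (∃ i, x.testBit i = true ∧ dig 8 255 r i < j) ∨ ∃ N, k N = true ∧ ∀ v, N.testBit v = true ↔
      acc.testBit v = true ∨ ∃ i, x.testBit i = true ∧ dig 8 255 r i = v := by
  induction n generalizing x acc with
  | zero => exact absurd h Bool.false_ne_true
  | succ n ih =>
    change ite' (Nat.beq x 0) (k acc) (force (low x) fun i => and' (tb x i)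
      (force (dig 8 255 r i) fun v => or' (Nat.blt v j) (fs (rmT x i) fun x' =>
        fs (Nat.lor acc (Nat.shiftLeft 1 v)) (cosF r j k n x')))) = true at h
    simp only [ite'_eq, beq_iff, force_eq, fs_eq] at h
    split_ifs at h with h0
    · exact .inr ⟨acc, h, by simp [h0]⟩
    rw [and'_eq_true, or'_eq_true, blt_iff, tb_eq] at h
    obtain ⟨h0, h | h⟩ := h
    · exact .inl ⟨_, h0, h⟩
    rcases ih h with ⟨i, h1, h2⟩ | ⟨N, h1, h2⟩
    · exact .inl ⟨i, ((testBit_rmT' h0 i).1 h1).1, h2⟩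
    refine .inr ⟨N, h1, fun v => ?_⟩
    rw [h2, Nat.lor_eq, Nat.testBit_or, Nat.shiftLeft_eq', Nat.one_shiftLeft, Nat.testBit_two_pow,
      Bool.or_eq_true, decide_eq_true_eq]
    constructor
    · rintro ((h | h) | ⟨i, h, h'⟩)
      · exact .inl h
      · exact .inr ⟨_, h0, h⟩
      · exact .inr ⟨i, ((testBit_rmT' h0 i).1 h).1, h'⟩
    · rintro (h | ⟨i, h, h'⟩)
      · exact .inl (.inl h)
      · by_cases e : i = low x
        · exact .inl (.inr (e ▸ h'))
        · exact .inr ⟨i, (testBit_rmT' h0 i).2 ⟨h, e⟩, h'⟩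

/-- The enumeration. -/
noncomputable def enumF (F : ℕ → ℕ) (P : ℕ → ℕ → ℕ → Bool) (n : ℕ) : ℕ → ℕ → ℕ → ℕ → Bool :=
  Nat.rec (motive := fun _ => ℕ → ℕ → ℕ → ℕ → Bool) (fun _ _ _ _ => false) (fun _ ih r X C K =>
    and' (P r X C) (allF (fun j => force (ptR j) fun R => cosF R j (fun N =>
      force (Nat.succ r) fun r' => fs (Nat.lor X N) fun X' => fs (Nat.land C (F j)) fun C' =>
        fs (Nat.land (Nat.land K (cmR j)) (Nat.xor (onz 191) (Nat.lor (onz j) X'))) (ih r' X' C'))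
      64 X (Nat.shiftLeft 1 j)) 191 K)) n

theorem enumF_sound {D : Md} {F : ℕ → ℕ}
    (hF : ∀ i < 191, ∀ a, (F i).testBit a = true ↔ a < 2048 ∧ D.act (iv i) a = a)
    {P : ℕ → ℕ → ℕ → Bool} {X : Subgroup M24} (hX : X ≤ Th) (h2 : ∀ x ∈ X, x * x = 1) {n : ℕ} :
    ∀ {Y : Subgroup M24} {r Ym Cm K : ℕ}, enumF F P n r Ym Cm K = true → Nd D Y r Ym Cm → Y ≤ X →
      (∀ i < 191, mc (iv i) ∈ X → mc (iv i) ∉ Y → K.testBit i = true) →
      ∃ r Xm Cm, Nd D X r Xm Cm ∧ P r Xm Cm = true := by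
  induction n with
  | zero => exact fun h => absurd h Bool.false_ne_true
  | succ n ih =>
    intro Y r Ym Cm K h hY hle hK
    change and' (P r Ym Cm) (allF (fun j => force (ptR j) fun R => cosF R j (fun N =>
      force (Nat.succ r) fun r' => fs (Nat.lor Ym N) fun X' =>
        fs (Nat.land Cm (F j)) fun C' => fs (Nat.land (Nat.land K (cmR j))
          (Nat.xor (onz 191) (Nat.lor (onz j) X'))) (enumF F P n r' X' C'))
      64 Ym (Nat.shiftLeft 1 j)) 191 K) = true at h
    rw [and'_eq_true] at h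
    by_cases e : X ≤ Y
    · exact ⟨r, Ym, Cm, le_antisymm hle e ▸ hY, h.1⟩
    have ex : ∃ j, j < 191 ∧ mc (iv j) ∈ X ∧ mc (iv j) ∉ Y := by
      obtain ⟨x, h3, h4⟩ := SetLike.not_le_iff_exists.1 e
      obtain ⟨j, hj, rfl⟩ := exists_iv (hX h3) (fun h => h4 (h ▸ Y.one_mem)) (h2 x h3)
      exact ⟨j, hj, h3, h4⟩
    classical
    obtain ⟨hj, hjX, hjY⟩ := Nat.find_spec ex
    have hmin : ∀ i < 191, mc (iv i) ∈ X → mc (iv i) ∉ Y → Nat.find ex ≤ i := fun i a b c =>
      Nat.find_min' ex ⟨a, b, c⟩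
    generalize Nat.find ex = j at hj hjX hjY hmin
    have h3 := of_allF h.2 (hK j hj hjX hjY)
    rw [force_eq] at h3
    have hp : ∀ i, Ym.testBit i = true → dig 8 255 (ptR j) i < 191 ∧
        mc (iv (dig 8 255 (ptR j) i)) = mc (iv j) * mc (iv i) := fun i hi =>
      (pt_spec ((hY.xm i).1 hi).1 hj (fun h => hjY (h ▸ ((hY.xm i).1 hi).2))
        (comm_of_sq h2 (hle ((hY.xm i).1 hi).2) hjX)).2
    rcases of_cosF h3 with ⟨i, h4, h5⟩ | ⟨N, h4, h5⟩
    · refine absurd (hmin _ (hp i h4).1 ?_ ?_) (not_le.2 h5)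
      · rw [(hp i h4).2]; exact mul_mem hjX (hle ((hY.xm i).1 h4).2)
      · rw [(hp i h4).2]; exact fun h => hjY ((mul_mem_cancel_right ((hY.xm i).1 h4).2).1 h)
    simp only [force_eq, fs_eq] at h4
    let Y' := ext1 Y (mc (iv j)) (iv_sq hj) fun y hy => comm_of_sq h2 (hle hy) hjX
    have m' : ∀ g, g ∈ Y' ↔ g ∈ Y ∨ mc (iv j) * g ∈ Y := fun _ => Iff.rfl
    have le' : Y' ≤ X := fun g hg => ((m' g).1 hg).elim (fun h => hle h) fun h =>
      (mul_mem_cancel_left hjX).1 (hle h)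
    have jY' : mc (iv j) ∈ Y' := .inr (by rw [iv_sq hj]; exact Y.one_mem)
    have xm' : ∀ i, (Nat.lor Ym N).testBit i = true ↔ i < 191 ∧ mc (iv i) ∈ Y' := fun i => by
      rw [Nat.lor_eq, Nat.testBit_or, Bool.or_eq_true, h5, hY.xm, Nat.shiftLeft_eq',
        Nat.one_shiftLeft, Nat.testBit_two_pow, decide_eq_true_eq]
      constructor
      · rintro (h | rfl | ⟨i0, h, rfl⟩)
        · exact ⟨h.1, .inl h.2⟩
        · exact ⟨hj, jY'⟩
        · exact ⟨(hp i0 h).1, by rw [(hp i0 h).2]; exact mul_mem jY' (.inl ((hY.xm i0).1 h).2)⟩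
      · rintro ⟨hi, h | h⟩
        · exact .inl ⟨hi, h⟩
        by_cases e1 : mc (iv j) * mc (iv i) = 1
        · refine .inr (.inl (iv_inj hj hi ?_))
          rw [← iv_sq hj] at e1
          exact mul_left_cancel e1.symm
        obtain ⟨i0, h0, e0⟩ := exists_iv (hY.le h) e1 (hY.sq _ h)
        have h6 := (hY.xm i0).2 ⟨h0, e0 ▸ h⟩
        refine .inr (.inr ⟨i0, h6, iv_inj (hp i0 h6).1 hi ?_⟩)
        rw [(hp i0 h6).2, e0, ← mul_assoc, iv_sq hj, one_mul]
    refine ih h4 (Y := Y') ⟨le'.trans hX, fun x hx => h2 x (le' hx), ?_, xm', fun a => ?_⟩ le'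
      fun i hi h6 h7 => ?_
    · rw [TT.card_eq_two_mul_of_mul_mem (A := Y') (B := Y) (fun _ h => (m' _).2 (.inl h)) jY' hjY fun x hx hx' => by
        rw [comm_of_sq h2 (le' hx) hjX]; exact ((m' x).1 hx).resolve_left hx', hY.card,
        Nat.succ_eq_add_one, pow_succ']
    · rw [Nat.land_eq, Nat.testBit_and, Bool.and_eq_true, hY.cm, hF j hj, D.mem_fx, D.mem_fx]
      constructor
      · rintro ⟨⟨ha, h6⟩, -, h7⟩
        refine ⟨ha, fun x hx => ((m' x).1 hx).elim (h6 x) fun h8 => ?_⟩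
        have : x = mc (iv j) * (mc (iv j) * x) := by rw [← mul_assoc, iv_sq hj, one_mul]
        rw [this, D.act_mul _ _ ha, h6 _ h8, cd_iv hj, h7]
      · rintro ⟨ha, h6⟩
        exact ⟨⟨ha, fun x hx => h6 x (.inl hx)⟩, ha, by simpa only [cd_iv hj] using h6 _ jY'⟩
    · have h8 : mc (iv i) ∉ Y := fun h => h7 (.inl h)
      have h9 : ¬ (Nat.lor Ym N).testBit i = true := fun h => h7 ((xm' i).1 h).2
      rw [Nat.lor_eq] at h9
      simp only [Nat.land_eq, Nat.xor_eq, Nat.lor_eq, Nat.testBit_and, Nat.testBit_xor,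
        Nat.testBit_or (onz j), testBit_onz, hK i hi h6 h8,
        (pt_spec hi hj (fun h => h7 (h ▸ jY')) (comm_of_sq h2 h6 hjX)).1]
      simp [hi, h9, hmin i hi h6 h8]

/-- The complete enumeration; `P` gets the table of fixed masks. -/
noncomputable def Md.runF (D : Md) (P : ℕ → ℕ → ℕ → ℕ → Bool) : Bool :=
  force D.fms fun F => enumF (dig 2048 (onz 2048) F)
    (fun r X C => or' (Nat.beq r 0) (P F r X C)) 8 0 0 (onz 2048) (onz 191)

theorem Md.of_runF {D : Md} {P : ℕ → ℕ → ℕ → ℕ → Bool} (h : D.runF P = true) {X : Subgroup M24}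
    (hX : X ≤ Th) (h2 : ∀ x ∈ X, x * x = 1) (h1 : X ≠ ⊥) :
    ∃ r Xm Cm, Nd D X r Xm Cm ∧ P D.fms r Xm Cm = true := by
  rw [Md.runF, force_eq] at h
  obtain ⟨r, Xm, Cm, h3, h4⟩ := enumF_sound (D := D) (fun i hi => D.testBit_fms hi) hX h2 h
    (Y := ⊥) ⟨bot_le, by simp, by simp, fun i => by
      simpa using fun hi => iv_ne_one hi, fun a => by
      rw [testBit_onz, D.mem_fx]
      simpa using fun ha => D.act_one ha⟩ bot_le fun i hi _ _ => by simp [testBit_onz, hi]
  refine ⟨r, Xm, Cm, h3, ((or'_eq_true _ _).1 h4).resolve_left fun e => h1 ?_⟩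
  rw [← card_eq_one, h3.card, (beq_iff _ _).1 e, pow_zero]

end Cfsg.Agent.R24
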