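import Cfsg.Agent.R24.TabB
import Cfsg.Agent.Spor.M24Res

/-!
# S3318: the finite facts about `M24` on the Golay module
-/

set_option autoImplicit false
set_option linter.unusedSimpArgs false

namespace Cfsg.Agent.R24

open Cfsg Cfsg.Agent.Comp Cfsg.Agent.Spor Cfsg.Agent.Spor.M24C Subgroup
open scoped Pointwise commutatorElement

namespace TabG

/-- A generator of the octad stabiliser. -/
def g0 : ℕ := 357237464246492573439481816903876836
/-- A generator of the octad stabiliser. -/
def g1 : ℕ := 732584369847545006113661951950193738

theorem inH_S0 {D : Md} {c : ℕ} (h : and' (okM c) (Nat.beq (D.act c D.z0) D.z0) = true) :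
    InH D.S0 c := by
  rw [and'_eq_true, beq_iff] at h
  exact inH_of_okM h.1 ((D.mem_S0' _).2 (by rw [cd_mc h.1]; exact h.2))

theorem conjE : ∀ g ∈ go.S0, ∀ x ∈ go.E, g * x * g⁻¹ ∈ go.E := by
  intro g hg x hx
  have := (mem_fixS_smul g (g * x * g⁻¹) (setOf' 5279)).2 (by
    rw [show g⁻¹ * (g * x * g⁻¹) * g = x by group]; exact hx)
  rwa [MulAction.mem_stabilizer_iff.1 hg] at this

theorem mem_S1 {g : M24} (hg : g ∈ go.S0) : g ∈ go.S1 1 := ⟨hg, by simp⟩

theorem nrm (Y : Subgroup M24) (h1 : go.E ≤ Y) (h2 : Y ≤ go.S0)
    (h3 : ∀ g ∈ go.S0, ∀ x ∈ Y, g * x * g⁻¹ ∈ Y) : Y ≤ go.E ⊔ zpowers 1 ∨ go.S1 1 ⊆ Y := by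
  let φ : go.S0 →* Equiv.Perm (setOf' 5279) := resHom M24 (setOf' 5279)
  have hk : ∀ g : go.S0, φ.rangeRestrict g = 1 ↔ (g : M24) ∈ go.E := fun g => by
    rw [← MonoidHom.mem_ker, MonoidHom.ker_rangeRestrict]
    exact (mem_ker_resHom _ g).trans mem_fixS.symm
  have hs : IsSimpleGroup φ.range := by
    rw [show φ.range = _ from range_resHom_octad o0_mem]
    exact alternatingGroup.isSimpleGroup (by
      rw [Nat.card_eq_fintype_card, Fintype.card_coe, o0_mem.2]; norm_num)
  rcases (map_normal φ.rangeRestrict φ.rangeRestrict_surjective h3).eq_bot_or_eq_top with h | h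
  · refine Or.inl fun x hx => mem_sup_left ((hk ⟨x, h2 hx⟩).1 ?_)
    rw [← mem_bot, ← h]
    exact mem_map_of_mem _ hx
  · refine Or.inr fun g hg => ?_
    obtain ⟨x, hx, e⟩ : φ.rangeRestrict ⟨g, hg.1⟩ ∈ (Y.subgroupOf go.S0).map φ.rangeRestrict :=
      h ▸ mem_top _
    have h4 := h1 ((hk (x⁻¹ * ⟨g, hg.1⟩)).1 (by rw [map_mul, map_inv, e, inv_mul_cancel]))
    simpa using mul_mem (mem_subgroupOf.1 hx) h4

/-- Distances to the classes of `1` and `7` modulo `W`. -/
def rk : ℕ := 0xf0225550545534542443562453235573f0225550545534542443562453235573f0225550545534542443562453235573f022555054553454244356245323557344413436145563132244563335412536444134361455631322445633354125364441343614556313224456333541253644413436145563132244563335412536f0225550545534542443562453235573f0225550545534542443562453235573f0225550545534542443562453235573f022555054553454244356245323557344413436145563132244563335412536444134361455631322445633354125364441343614556313224456333541253644413436145563132244563335412536f0225550545534542443562453235573f0225550545534542443562453235573f0225550545534542443562453235573f02255505455345424435624532355734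4413436145563132244563335412536444134361455631322445633354125364441343614556313224456333541253644413436145563132244563335412536f0225550545534542443562453235573f0225550545534542443562453235573f0225550545534542443562453235573f022555054553454244356245323557344413436145563132244563335412536444134361455631322445633354125364441343614556313224456333541253644413436145563132244563335412536635214533365442231365541634314446352145333654422313655416343144463521453336544223136554163431444635214533365442231365541634314443755323542653442454355450555220f3755323542653442454355450555220f3755323542653442454355450555220f3755323542653442454355450555220f635214533365442231365541634314446352145333654422313655416343144463521453336544223136554163431444635214533365442231365541634314443755323542653442454355450555220f3755323542653442454355450555220f3755323542653442454355450555220f3755323542653442454355450555220f635214533365442231365541634314446352145333654422313655416343144463521453336544223136554163431444635214533365442231365541634314443755323542653442454355450555220f3755323542653442454355450555220f3755323542653442454355450555220f3755323542653442454355450555220f635214533365442231365541634314446352145333654422313655416343144463521453336544223136554163431444635214533365442231365541634314443755323542653442454355450555220f3755323542653442454355450555220f3755323542653442454355450555220f3755323542653442454355450555220f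

theorem rel : ∀ a < 2048, ¬ go.inW a → ∃ r ∈ [1, 7], go.Rel go.S0 a r :=
  go.rel_of_rank (fun _ => inW_go) (G := [g0, g1]) (fun c hc => inH_S0 (by
    revert c; decide +kernel)) [1, 7] (by decide) rk (by decide +kernel)

theorem irrVW (A : ℕ → Prop) (hx : ∀ a b, A a → A b → A (a ^^^ b))
    (hA : ∀ g ∈ go.S0, ∀ a < 2048, A a → A (go.act (cd g) a)) (hW : ∀ a < 2048, go.inW a → A a)
    (b : ℕ) (hb : b < 2048) (h1 : A b) (h2 : ¬ go.inW b) (a : ℕ) (ha : a < 2048) : A a := by
  have key : ∀ c d r s : ℕ, r < 2048 → s < 2048 → InH go.S0 c → InH go.S0 d →
      gWm.testBit (go.act c r ^^^ go.act d r ^^^ s) = true → A r → A s := by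
    rintro _ _ r s hr hs ⟨g, hg, rfl⟩ ⟨h, hh, rfl⟩ h3 h4
    have := hx _ _ (hx _ _ (hA g hg r hr h4) (hA h hh r hr h4)) (hW _ (xor_lt (xor_lt
      (go.act_lt _ _) (go.act_lt _ _)) hs) ((inW_go (xor_lt (xor_lt
      (go.act_lt _ _) (go.act_lt _ _)) hs)).2 h3))
    rwa [← Nat.xor_assoc, Nat.xor_self, Nat.zero_xor] at this
  have k1 : A 1 → A 7 := key 978998062088374845406260168600158337 oneC 1 7 (by norm_num)
    (by norm_num) (inH_S0 (by decide +kernel)) (inH_one _) (by decide +kernel)
  have k7 : A 7 → A 1 := key 681946255511863141471225251751143459
    601791142070336577640789241170735427 7 1 (by norm_num) (by norm_num)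
    (inH_S0 (by decide +kernel)) (inH_S0 (by decide +kernel)) (by decide +kernel)
  have hl : ∀ r ∈ [1, 7], r < 2048 := by decide
  have h3 : ∀ r ∈ [1, 7], A r := by
    obtain ⟨r, hr, h⟩ := rel b hb h2
    have h4 := (h.iff hx hA hW hb (hl r hr)).1 h1
    simp only [List.mem_cons, List.not_mem_nil, or_false, forall_eq_or_imp, forall_eq] at hr ⊢
    rcases hr with rfl | rfl
    exacts [⟨h4, k1 h4⟩, ⟨k7 h4, h4⟩]
  by_cases h : go.inW a
  · exact hW a ha h
  · obtain ⟨r, hr, h⟩ := rel a ha h
    exact (h.iff hx hA hW ha (hl r hr)).2 (h3 r hr)

end TabG

open TabG in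
theorem tab_go : go.Tab 1 := by
  have i0 : InH go.S0 g0 := inH_S0 (by decide +kernel)
  have i2 : InH Th (eT 2) := inH_eT (by norm_num)
  have i3 : InH go.S0 653809122818428713052998500117224833 := inH_S0 (by decide +kernel)
  have o1 : okM 295281721588997732107787583627086509 = true := by decide +kernel
  have o2 : okM 317680946984426812204825964004778483 = true := by decide +kernel
  refine go.tab_of (fun _ => inW_go) (fun _ => mem_goE) [1, 4, 80, 434] [64, 256, 512, 32]
    (by decide) (by decide +kernel) Th_le_go goE_le_Th conjE
    (go.irr_of [844524085828244081681578254469220823, 217051395832941397663345546942135694,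
      262918703388012795123508854768718423, 186002382012219060102876033736838547,
      222038276414273673719796406240821868, 295281721588997732107787583627086509,
      140857860211123495131865699972496597, 110996765012385682216771164338441618,
      959697951184037738862370553625760434, 439102778098347323965531764174836021,
      296192396346623429401287008579895754] tbs (by decide +kernel) (by decide +kernel))
    ⟨mc 295281721588997732107787583627086509, mc 317680946984426812204825964004778483,
      by rw [cd_mc o1, cd_mc o2]; decide +kernel,
      (inW_go (go.act_lt _ _)).2 (by rw [cd_mc o1]; decide +kernel)⟩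
    (one_mem _) (one_pow 3) (fun g _ => Or.inl (by simp))
    (fun a ha => by rw [go.act_one (tbs_lt a ha), Nat.xor_self]; exact go.inW_zero)
    (Or.inl (one_mem _)) irrVW nrm (mem_S1 i0.mc_mem)
    ⟨1, by norm_num, by
      rw [inW_go (xor_lt (go.act_lt _ _) (by norm_num)), okM_of_inH i0]; decide +kernel⟩
    ⟨32, by norm_num, (inW_go (by norm_num)).2 (by decide +kernel), by
      rw [okM_of_inH i0]; decide +kernel⟩
    (mem_S1 (Th_le_go i2.mc_mem)) (cd_inj (by rw [cd_mul, okM_of_inH i2, cd_one]; decide +kernel))
    (by rw [mem_goE, okM_of_inH i2]; decide +kernel) (mem_S1 i3.mc_mem)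
    (cd_inj (by
      rw [pow_succ, pow_two, cd_mul, cd_mul, okM_of_inH i3, cd_one]; decide +kernel))
    (fun h => by
      have := congrArg cd h
      rw [okM_of_inH i3, cd_one] at this
      exact absurd this (by decide +kernel))

end Cfsg.Agent.R24
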